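import Cfsg.Agent.Lib.McLStd.Fin8
import Cfsg.Agent.Lib.McLUniq.Cover
import Cfsg.Agent.Lib.Layer.StandardRankOne
import Cfsg.Agent.Lib.Perm.AutAlternating

/-!
A standard copy of the double cover of the alternating group on eight points and the action of its
normaliser on the eight points.
-/

set_option autoImplicit false
set_option linter.style.haveILetI false
set_option linter.unusedSectionVars false

open scoped commutatorElement

namespace CfsgLib.McLStd

open Equiv CfsgLib.CosetEnum CfsgLib.McLUniq CfsgLib.SpinAlt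

universe u

theorem eq_one_of_commute_alt {σ : Perm (Fin 8)}
    (h : ∀ a : Perm (Fin 8), Perm.sign a = 1 → σ * a = a * σ) : σ = 1 := by
  refine CfsgLib.AutAlternating.conjNormal_injective (n := 8) (by norm_num) ?_
  rw [map_one]
  refine MulEquiv.ext fun a => Subtype.ext ?_
  rw [MulAut.conjNormal_apply, MulAut.one_apply, mul_inv_eq_iff_eq_mul]
  exact h a.1 (Perm.mem_alternatingGroup.mp a.2)

theorem double_sq {d : Perm (Fin 8)} (hd : IsDouble d) : d * d = 1 := by
  rw [← pow_two, ← orderOf_dvd_iff_pow_eq_one, ← Perm.lcm_cycleType, hd.cycleType]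
  decide

/-- the situation -/
structure Ctx (G : Type u) [Group G] where
  /-- the copy of the cover -/
  L : Subgroup G
  /-- standard -/
  std : Cfsg.IsStandardSubgroup L
  /-- a double cover -/
  cov : Cfsg.IsNonsplitDoubleCover L (alternatingGroup (Fin 8))
  /-- with its model -/
  M : Model28 L

namespace Ctx

variable {G : Type u} [Group G] (c : Ctx G)

/-- the map onto the alternating group -/
noncomputable def piX : c.L →* Perm (Fin 8) := c.M.π

/-- the kernel element -/
noncomputable def tX : c.L := c.M.z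

/-- the lift of `W` -/
noncomputable def xW : c.L := prodW (seq c.M.y) wU

/-- an element negating the lift of `W` -/
noncomputable def xS : c.L := prodW (seq c.M.y) wSwap

/-- the inclusion -/
noncomputable def ι : c.L →* G := c.L.subtype

theorem inj : Function.Injective c.ι := c.L.subtype_injective

theorem range_ι : c.ι.range = c.L := c.L.range_subtype

/-- the same map into the alternating group -/
noncomputable def piA : c.L →* alternatingGroup (Fin 8) :=
  c.M.π.codRestrict _ fun x => c.M.cover.range ▸ ⟨x, rfl⟩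

theorem piA_surj : Function.Surjective c.piA := fun a => by
  obtain ⟨x, hx⟩ := (c.M.cover.range.symm ▸ a.2 : (a : Perm (Fin 8)) ∈ c.M.π.range)
  exact ⟨x, Subtype.ext hx⟩

theorem piX_def (x : c.L) : c.piX x = (c.piA x).1 := rfl

theorem piX_tX : c.piX c.tX = 1 := c.M.π_z

theorem tX_ne : c.tX ≠ 1 := c.M.z_ne

theorem tX_sq : c.tX * c.tX = 1 := c.M.sys.sq

theorem orderOf_tX : orderOf c.tX = 2 := orderOf_eq_prime (by rw [pow_two, c.tX_sq]) c.tX_ne

theorem piX_eq_one {x : c.L} : c.piX x = 1 ↔ x = 1 ∨ x = c.tX := by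
  refine ⟨fun h => c.M.ker_π x h, ?_⟩
  rintro (rfl | rfl)
  · exact map_one _
  · exact c.piX_tX

theorem piX_eq {x y : c.L} (h : c.piX x = c.piX y) : y = x ∨ y = x * c.tX := by
  rcases c.piX_eq_one.mp (show c.piX (x⁻¹ * y) = 1 by rw [map_mul, map_inv, h, inv_mul_cancel]) with e | e
  · exact Or.inl (inv_mul_eq_one.mp e).symm
  · exact Or.inr (inv_mul_eq_iff_eq_mul.mp e)

theorem piX_word (w : List ℕ) : c.piX (prodW (seq c.M.y) w) = prodW (seq cyc) w := by
  rw [map_word]
  simp only [piX, c.M.π_y]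

theorem piX_W : c.piX c.xW = pW := by rw [xW, c.piX_word, pW_word]

theorem word_eq {v w : List ℕ} (hv : ok6 v = true) (hw : ok6 w = true) (h : sameY v w = true) :
    prodW (seq c.M.y) v = prodW (seq c.M.y) w := by
  refine c.M.f_inj ?_
  rw [map_word, map_word]
  simp only [c.M.f_y]
  have hi : ∀ {w : List ℕ}, ok6 w = true → ∀ i ∈ w, i < 6 := fun h => by simpa [ok6] using h
  exact (sameY_iff (hi hv) (hi hw)).1 h

variable [Finite G]

theorem tX_comm (x : c.L) : x * c.tX = c.tX * x := c.M.cover.ker_comm c.piX_tX x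

theorem xW_sq : c.xW * c.xW = 1 := by
  rw [xW, ← prodW_append, ← prodW_nil (seq c.M.y)]
  exact c.word_eq (by decide) rfl (by decide +kernel)

theorem xS_xW : c.xS * c.xW = c.tX * c.xW * c.xS := by
  have ht : c.tX = prodW (seq c.M.y) [0, 1, 0, 1] := by
    simp only [prodW_cons, prodW_nil, mul_one, seq_of_lt _ (by norm_num : (0 : ℕ) < 6),
      seq_of_lt _ (by norm_num : (1 : ℕ) < 6)]
    rw [← mul_assoc]
    exact (c.M.sys.pair ⟨0, by norm_num⟩ ⟨1, by norm_num⟩ (by decide)).symm
  rw [ht, xS, xW, ← prodW_append, ← prodW_append, ← prodW_append]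
  exact c.word_eq (by decide) (by decide) u8_chk.2.2.2.2

theorem exists_lift {s : Perm (Fin 8)} (hs : Perm.sign s = 1) : ∃ x : c.L, c.piX x = s :=
  c.M.cover.exists_lift (Perm.mem_alternatingGroup.mpr hs)

theorem sign_piX (x : c.L) : Perm.sign (c.piX x) = 1 := Perm.mem_alternatingGroup.mp (c.M.cover.pi_mem x)

theorem perfect_X : commutator c.L = ⊤ := c.M.cover.perfect

theorem sq_dd {x : c.L} (hd : IsDouble (c.piX x)) : x * x = c.tX :=
  (c.piX_eq_one.mp (by rw [map_mul, double_sq hd])).resolve_left (c.M.cover.sq_ne_one hd)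

/-- the central involution -/
noncomputable def z : G := c.ι c.tX

/-- its centraliser -/
noncomputable def N : Subgroup G := Subgroup.centralizer ({c.z} : Set G)

/-- the centraliser of the copy -/
noncomputable def K : Subgroup G := Subgroup.centralizer (c.L : Set G)

theorem mem_K {k : G} : k ∈ c.K ↔ ∀ x : c.L, c.ι x * k = k * c.ι x := by
  rw [K, Subgroup.mem_centralizer_iff]
  exact ⟨fun h x => h _ x.2, fun h y hy => h ⟨y, hy⟩⟩

theorem mem_N {n : G} : n ∈ c.N ↔ n * c.z = c.z * n := by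
  rw [N, Subgroup.mem_centralizer_singleton_iff]

theorem z_mem_K : c.z ∈ c.K := c.mem_K.mpr fun x => by rw [z, ← map_mul, c.tX_comm, map_mul]

theorem z_ne : c.z ≠ 1 := fun e => c.tX_ne (c.inj (e.trans (map_one c.ι).symm))

theorem z_sq : c.z * c.z = 1 := by rw [z, ← map_mul, c.tX_sq, map_one]

theorem orderOf_z : orderOf c.z = 2 := by rw [z, orderOf_injective c.ι c.inj, orderOf_tX]

theorem z_mem_N : c.z ∈ c.N := c.mem_N.mpr rfl

theorem iota_mem_N (x : c.L) : c.ι x ∈ c.N := c.mem_N.mpr (by rw [z, ← map_mul, c.tX_comm, map_mul])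

theorem K_le_N : c.K ≤ c.N := fun k hk => c.mem_N.mpr (by rw [z]; exact (c.mem_K.mp hk c.tX).symm)

theorem central_eq {x : c.L} (h : ∀ y : c.L, y * x = x * y) : x = 1 ∨ x = c.tX := by
  refine c.piX_eq_one.mp (eq_one_of_commute_alt fun a ha => ?_)
  obtain ⟨y, rfl⟩ := c.exists_lift ha
  rw [← map_mul, ← map_mul, h]


theorem norm_eq : Subgroup.normalizer (c.L : Set G) = c.N := by
  refine le_antisymm (fun n hn => ?_) fun n hn =>
    StandardRankOne.centralizer_involution_le _ c.std c.z_mem_K c.orderOf_z (c.mem_N.mp hn)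
  obtain ⟨x, hx⟩ : ∃ x : c.L, c.ι x = n * c.z * n⁻¹ := ⟨⟨_, (Subgroup.mem_normalizer_iff.mp hn c.z).1 c.tX.2⟩, rfl⟩
  have hcen : ∀ y : c.L, y * x = x * y := fun y => c.inj (by
    obtain ⟨y', hy'⟩ : ∃ y' : c.L, c.ι y' = n⁻¹ * c.ι y * n :=
      ⟨⟨_, (Subgroup.mem_normalizer_iff''.mp hn (c.ι y)).1 y.2⟩, rfl⟩
    have := c.mem_K.mp c.z_mem_K y'
    rw [map_mul, map_mul, hx]
    calc c.ι y * (n * c.z * n⁻¹) = n * ((n⁻¹ * c.ι y * n) * c.z) * n⁻¹ := by group
      _ = n * (c.z * (n⁻¹ * c.ι y * n)) * n⁻¹ := by rw [← hy', this]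
      _ = _ := by group)
  rcases c.central_eq hcen with rfl | rfl
  · rw [map_one] at hx
    exfalso
    refine c.z_ne ?_
    calc c.z = n⁻¹ * (n * c.z * n⁻¹) * n := by group
      _ = 1 := by rw [← hx]; group
  · rw [c.mem_N]
    exact mul_inv_eq_iff_eq_mul.mp hx.symm

theorem conj_iota {n : G} (hn : n ∈ c.N) (x : c.L) : ∃ x' : c.L, n * c.ι x * n⁻¹ = c.ι x' := by
  rw [← c.norm_eq] at hn
  exact ⟨⟨_, (Subgroup.mem_normalizer_iff.mp hn (c.ι x)).1 x.2⟩, rfl⟩

theorem conj_K {n k : G} (hn : n ∈ c.N) (hk : k ∈ c.K) : n * k * n⁻¹ ∈ c.K := by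
  refine c.mem_K.mpr fun x => ?_
  obtain ⟨x', hx'⟩ := c.conj_iota (c.N.inv_mem hn) x
  rw [inv_inv] at hx'
  calc c.ι x * (n * k * n⁻¹) = n * ((n⁻¹ * c.ι x * n) * k) * n⁻¹ := by group
    _ = n * (k * (n⁻¹ * c.ι x * n)) * n⁻¹ := by rw [hx', c.mem_K.mp hk]
    _ = _ := by group

/-- Two conjugate involutions of the centraliser of the copy are conjugate only in the normaliser. -/
theorem mem_N_of_conj {u h : G} (hu : u ∈ c.K) (h2 : orderOf u = 2) (hh : h * u * h⁻¹ ∈ c.K) : h ∈ c.N := by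
  rw [← c.norm_eq, c.std.2.2.2]
  by_contra hn
  have hodd := c.std.2.1.2 h hn
  have hm : h * u * h⁻¹ ∈ c.K ⊓ c.K.map (MulAut.conj h).toMonoidHom := ⟨hh, u, hu, rfl⟩
  have h3 := Subgroup.orderOf_dvd_natCard _ hm
  rw [← MulAut.conj_apply, MulEquiv.orderOf_eq, h2] at h3
  exact (Nat.not_even_iff_odd.mpr hodd) (even_iff_two_dvd.mpr h3)

/-- The centraliser of an involution of `K` lies in `N`. -/
theorem centralizer_le {u y : G} (hu : u ∈ c.K) (h2 : orderOf u = 2) (hy : y * u = u * y) : y ∈ c.N :=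
  c.mem_N_of_conj hu h2 (by rwa [hy, mul_inv_cancel_right])

theorem exists_perm {n : G} (hn : n ∈ c.N) :
    ∃ σ : Perm (Fin 8), ∀ x x' : c.L, n * c.ι x * n⁻¹ = c.ι x' → σ * c.piX x * σ⁻¹ = c.piX x' := by
  classical
  choose f hf using c.conj_iota hn
  choose f' hf' using c.conj_iota (c.N.inv_mem hn)
  let θ : MulAut c.L :=
    { toFun := f
      invFun := f'
      left_inv := fun x => c.inj (by rw [← hf', ← hf]; group)
      right_inv := fun x => c.inj (by rw [← hf, ← hf']; group)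
      map_mul' := fun x y => c.inj (by rw [map_mul, ← hf, ← hf, ← hf, map_mul]; group) }
  have hker : ∀ x, c.piA x = 1 → c.piA (θ x) = 1 := by
    intro x hx
    rcases c.piX_eq_one.mp (congrArg Subtype.val hx) with rfl | rfl
    · rw [map_one, map_one]
    · refine Subtype.ext (c.piX_eq_one.mpr (c.central_eq fun y => ?_))
      conv_lhs => rw [← θ.apply_symm_apply y, ← map_mul, c.tX_comm, map_mul, θ.apply_symm_apply]
  have hwd : ∀ x y, c.piA x = c.piA y → c.piA (θ x) = c.piA (θ y) := fun x y e => by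
    have h := hker (x⁻¹ * y) (by rw [map_mul, map_inv, e, inv_mul_cancel])
    rwa [map_mul, map_inv, map_mul, map_inv, inv_mul_eq_one] at h
  let lift : alternatingGroup (Fin 8) → c.L := Function.surjInv c.piA_surj
  have hl : ∀ a, c.piA (lift a) = a := Function.surjInv_eq c.piA_surj
  let ψ : alternatingGroup (Fin 8) →* alternatingGroup (Fin 8) :=
    MonoidHom.mk' (fun a => c.piA (θ (lift a))) fun a b => by
      rw [← map_mul, ← map_mul]
      exact hwd _ _ (by rw [map_mul, hl, hl, hl])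
  have hψ : Function.Surjective ψ := fun a => by
    obtain ⟨x, rfl⟩ := c.piA_surj a
    refine ⟨c.piA (θ.symm x), ?_⟩
    show c.piA (θ (lift _)) = c.piA x
    rw [hwd _ (θ.symm x) (hl _), θ.apply_symm_apply]
  obtain ⟨σ, hσ⟩ := CfsgLib.AutAlternating.eq_conj (n := 8) (by norm_num) (by norm_num)
    (MulEquiv.ofBijective ψ (Finite.injective_iff_surjective.mpr hψ |> fun h => ⟨h, hψ⟩))
  refine ⟨σ, fun x x' hx => ?_⟩
  have h := congrArg Subtype.val (MulEquiv.ext_iff.mp hσ (c.piA x))
  rw [MulAut.conjNormal_apply] at h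
  rw [c.piX_def, c.piX_def, h]
  show (c.piA (θ (lift (c.piA x)))).1 = _
  rw [hwd _ x (hl _)]
  exact congrArg (fun y => (c.piA y).1) (c.inj ((hf x).symm.trans hx) : θ x = x')

/-- the permutation induced by an element of the normaliser -/
noncomputable def sig (n : G) : Perm (Fin 8) :=
  Classical.epsilon fun σ => ∀ x x' : c.L, n * c.ι x * n⁻¹ = c.ι x' → σ * c.piX x * σ⁻¹ = c.piX x'

theorem sig_spec {n : G} (hn : n ∈ c.N) {x x' : c.L} (h : n * c.ι x * n⁻¹ = c.ι x') :
    c.sig n * c.piX x * (c.sig n)⁻¹ = c.piX x' :=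
  Classical.epsilon_spec (c.exists_perm hn) x x' h

theorem sig_unique {n : G} (hn : n ∈ c.N) {σ : Perm (Fin 8)}
    (h : ∀ x x' : c.L, n * c.ι x * n⁻¹ = c.ι x' → σ * c.piX x * σ⁻¹ = c.piX x') : c.sig n = σ := by
  refine (inv_mul_eq_one.mp (eq_one_of_commute_alt fun a ha => ?_)).symm
  obtain ⟨x, rfl⟩ := c.exists_lift ha
  obtain ⟨x', hx'⟩ := c.conj_iota hn x
  have e1 := c.sig_spec hn hx'
  rw [← h x x' hx'] at e1
  calc σ⁻¹ * c.sig n * c.piX x = σ⁻¹ * (c.sig n * c.piX x * (c.sig n)⁻¹) * c.sig n := by group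
    _ = c.piX x * (σ⁻¹ * c.sig n) := by rw [e1]; group

theorem sig_one : c.sig 1 = 1 := c.sig_unique c.N.one_mem fun x x' h => by
  rw [one_mul, inv_one, mul_one] at h
  rw [one_mul, inv_one, mul_one, c.inj h]

theorem sig_mul {a b : G} (ha : a ∈ c.N) (hb : b ∈ c.N) : c.sig (a * b) = c.sig a * c.sig b := by
  refine c.sig_unique (c.N.mul_mem ha hb) fun x x' h => ?_
  obtain ⟨y, hy⟩ := c.conj_iota hb x
  have hy2 : a * c.ι y * a⁻¹ = c.ι x' := by rw [← hy, ← h]; group
  rw [← c.sig_spec ha hy2, ← c.sig_spec hb hy]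
  group

theorem sig_inv {a : G} (ha : a ∈ c.N) : c.sig a⁻¹ = (c.sig a)⁻¹ :=
  eq_inv_of_mul_eq_one_left (by rw [← c.sig_mul (c.N.inv_mem ha) ha, inv_mul_cancel, c.sig_one])

theorem sig_pow {a : G} (ha : a ∈ c.N) (n : ℕ) : c.sig (a ^ n) = c.sig a ^ n := by
  induction n with
  | zero => rw [pow_zero, pow_zero, c.sig_one]
  | succ n ih => rw [pow_succ, pow_succ, c.sig_mul (c.N.pow_mem ha n) ha, ih]

theorem sig_iota (y : c.L) : c.sig (c.ι y) = c.piX y := c.sig_unique (c.iota_mem_N y) fun x x' h => by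
  rw [← map_inv, ← map_mul, ← map_mul] at h
  rw [← map_inv, ← map_mul, ← map_mul, c.inj h]

theorem sig_z : c.sig c.z = 1 := by rw [z, c.sig_iota, c.piX_tX]

theorem sig_eq_one_iff {n : G} (hn : n ∈ c.N) : c.sig n = 1 ↔ n ∈ c.K := by
  constructor
  · intro h1
    choose f hf using c.conj_iota hn
    have hcase : ∀ x, f x = x ∨ f x = x * c.tX := fun x => c.piX_eq (by
      rw [← c.sig_spec hn (hf x), h1, one_mul, inv_one, mul_one])
    have hfm : ∀ x y, f (x * y) = f x * f y := fun x y => c.inj (by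
      rw [map_mul, ← hf, ← hf, ← hf, map_mul]; group)
    have hcm : ∀ x y : c.L, (x⁻¹ * f x) * (y⁻¹ * f y) = (x * y)⁻¹ * f (x * y) := by
      intro x y
      have hy : ∀ w, w * (x⁻¹ * f x) = (x⁻¹ * f x) * w := fun w => by
        rcases hcase x with e | e <;> rw [e]
        · simp
        · rw [inv_mul_cancel_left]; exact c.tX_comm w
      rw [← mul_assoc, ← hy y⁻¹, hfm]
      group
    let e : c.L →* c.L := MonoidHom.mk' (fun x => x⁻¹ * f x) fun x y => (hcm x y).symm
    have he : ∀ x, e x = 1 := by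
      intro x
      have hle : commutator c.L ≤ e.ker := by
        rw [commutator_def, Subgroup.commutator_le]
        intro p _ q _
        rw [MonoidHom.mem_ker, map_commutatorElement, commutatorElement_eq_one_iff_mul_comm]
        rcases hcase p with h | h <;> show p⁻¹ * f p * e q = e q * (p⁻¹ * f p) <;> rw [h]
        · simp
        · rw [inv_mul_cancel_left, c.tX_comm]
      exact MonoidHom.mem_ker.mp (hle (c.perfect_X ▸ Subgroup.mem_top x))
    refine c.mem_K.mpr fun x => ?_
    have hx := hf x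
    rw [show f x = x from (inv_mul_eq_one.mp (he x)).symm, mul_inv_eq_iff_eq_mul] at hx
    exact hx.symm
  · intro hk
    exact c.sig_unique hn fun x x' h => by
      rw [← c.mem_K.mp hk x, mul_inv_cancel_right] at h
      rw [one_mul, inv_one, mul_one, c.inj h]

/-- The action as a homomorphism. -/
noncomputable def sigH : c.N →* Perm (Fin 8) :=
  MonoidHom.mk' (fun n => c.sig n) fun a b => c.sig_mul a.2 b.2

theorem commute_sig {a b : G} (ha : a ∈ c.N) (hb : b ∈ c.N) (h : a * b = b * a) :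
    c.sig a * c.sig b = c.sig b * c.sig a := by rw [← c.sig_mul ha hb, h, c.sig_mul hb ha]

end Ctx

end CfsgLib.McLStd
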