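import Cfsg.Agent.Lib.McLStd.Fuse
import Cfsg.Agent.Lib.ZStar.Main

/-!
The centraliser of the copy is a group of order two times an odd group normalised by an element exchanging
the central involution with `W`.
-/

set_option autoImplicit false
set_option linter.style.haveILetI false
set_option linter.unusedSectionVars false

open scoped commutatorElement

namespace CfsgLib.McLStd

open Equiv CfsgLib.CosetEnum CfsgLib.McLUniq CfsgLib.SpinAlt

universe u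

namespace Ctx

variable {G : Type u} [Group G] (c : Ctx G) [Finite G]

/-- The central involution is fused in its centraliser. -/
theorem exists_fused [IsSimpleGroup G] : ∃ h : G, h * c.z * h⁻¹ ∈ c.N ∧ h * c.z * h⁻¹ ≠ c.z := by
  by_contra hcon
  push Not at hcon
  have hiso : Cfsg.IsIsolatedInvolution c.z :=
    ⟨c.orderOf_z, fun h hh => hcon h (c.mem_N.mpr hh.eq.symm)⟩
  have hco := ZStar.commutatorsInCore_of_isolated hiso
  rcases Subgroup.Normal.eq_bot_or_eq_top (Transfer.pPrimeCore_normal 2 G) with h | h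
  · have hcen : ∀ w, w * c.z = c.z * w := fun w => by
      have h1 := hco w
      rw [h, Subgroup.mem_bot, mul_inv_eq_one, mul_inv_eq_iff_eq_mul] at h1
      exact h1.symm
    have hzc : c.z ∈ Subgroup.center G := Subgroup.mem_center_iff.mpr hcen
    have htop : Subgroup.center G = ⊤ :=
      (Subgroup.Normal.eq_bot_or_eq_top inferInstance).resolve_left fun hb => by
        rw [hb, Subgroup.mem_bot] at hzc
        exact c.z_ne hzc
    have hle : commutator c.L ≤ c.ι.ker := by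
      rw [commutator_def, Subgroup.commutator_le]
      intro p _ q _
      rw [MonoidHom.mem_ker, map_commutatorElement, commutatorElement_eq_one_iff_mul_comm]
      exact Subgroup.mem_center_iff.mp (htop ▸ Subgroup.mem_top (c.ι q)) (c.ι p)
    exact c.z_ne (MonoidHom.mem_ker.mp (hle (c.perfect_X ▸ Subgroup.mem_top c.tX)))
  · have hodd : Odd (Nat.card (Cfsg.pPrimeCore 2 G)) := ZStar.odd_card_core
    rw [h, Subgroup.card_top] at hodd
    exact (Nat.not_even_iff_odd.mpr hodd) (even_iff_two_dvd.mpr (c.orderOf_z ▸ orderOf_dvd_natCard c.z))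

/-- Some element carries `z` to `W`. -/
theorem exists_g [IsSimpleGroup G] : ∃ g : G, g⁻¹ * c.z * g = c.ι c.xW := by
  obtain ⟨h, hN, h1⟩ := c.exists_fused
  obtain ⟨hN', h1'⟩ := c.conj_inv_props hN h1
  obtain ⟨x, hx⟩ := c.conj_mem hN' h1'
  refine ⟨h * (c.ι x)⁻¹, ?_⟩
  calc (h * (c.ι x)⁻¹)⁻¹ * c.z * (h * (c.ι x)⁻¹) = c.ι x * (h⁻¹ * c.z * h⁻¹⁻¹) * (c.ι x)⁻¹ := by group
    _ = c.ι c.xW := by
      rw [hx, ← map_inv, ← map_mul, ← map_mul]
      congr 1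
      group

variable {g : G} (hg : g⁻¹ * c.z * g = c.ι c.xW)
include hg

theorem g_props : g * c.z * g⁻¹ ∈ c.N ∧ g * c.z * g⁻¹ ≠ c.z := by
  have hN : g⁻¹ * c.z * g⁻¹⁻¹ ∈ c.N := by rw [inv_inv, hg]; exact c.iota_mem_N _
  have h1 : g⁻¹ * c.z * g⁻¹⁻¹ ≠ c.z := fun e => by
    rw [inv_inv, hg] at e
    have h2 := congrArg c.sig e
    rw [c.sig_iota, c.sig_z, c.piX_W] at h2
    exact pW_facts.2.1 h2
  have := c.conj_inv_props hN h1
  rwa [inv_inv] at this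

theorem g_conj_W : g * c.ι c.xW * g⁻¹ = c.z := by rw [← hg]; group

theorem conj_mem_N {k : G} (hk : k ∈ c.K) : g⁻¹ * k * g ∈ c.N ∧
    g⁻¹ * k * g * c.ι c.xW = c.ι c.xW * (g⁻¹ * k * g) := by
  obtain ⟨x, hx⟩ := c.conj_mem (c.g_props hg).1 (c.g_props hg).2
  refine ⟨c.mem_N.mpr ?_, ?_⟩
  · calc g⁻¹ * k * g * c.z = g⁻¹ * (k * (g * c.z * g⁻¹)) * g := by group
      _ = g⁻¹ * ((g * c.z * g⁻¹) * k) * g := by rw [hx, c.mem_K.mp hk]
      _ = c.z * (g⁻¹ * k * g) := by group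
  · rw [← hg]
    calc g⁻¹ * k * g * (g⁻¹ * c.z * g) = g⁻¹ * (k * c.z) * g := by group
      _ = g⁻¹ * (c.z * k) * g := by rw [c.mem_N.mp (c.K_le_N hk)]
      _ = _ := by group

/-- the permutation of a conjugate of an element of `K` -/
theorem mu_mul {a b : G} (ha : a ∈ c.K) (hb : b ∈ c.K) :
    c.sig (g⁻¹ * (a * b) * g) = c.sig (g⁻¹ * a * g) * c.sig (g⁻¹ * b * g) := by
  rw [← c.sig_mul (c.conj_mem_N hg ha).1 (c.conj_mem_N hg hb).1]
  congr 1
  group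

theorem mu_pow {a : G} (ha : a ∈ c.K) (n : ℕ) : c.sig (g⁻¹ * a ^ n * g) = c.sig (g⁻¹ * a * g) ^ n := by
  rw [← c.sig_pow (c.conj_mem_N hg ha).1]
  congr 1
  rw [show g⁻¹ * a * g = MulAut.conj g⁻¹ a by simp, ← map_pow]
  simp

/-- An involution of `K` is `z`. -/
theorem K_invol {u : G} (hu : u ∈ c.K) (h2 : orderOf u = 2) : u = c.z := by
  obtain ⟨x, hx⟩ := c.conj_mem (c.g_props hg).1 (c.g_props hg).2
  exact c.invol_K_eq (c.g_props hg).1 (c.g_props hg).2 hu h2 (by rw [hx, c.mem_K.mp hu])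

theorem sig_mu_W {a : G} (ha : a ∈ c.K) :
    c.sig (g⁻¹ * a * g) * pW = pW * c.sig (g⁻¹ * a * g) := by
  have h := c.commute_sig (c.conj_mem_N hg ha).1 (c.iota_mem_N _) (c.conj_mem_N hg ha).2
  rwa [c.sig_iota, c.piX_W] at h

/-- An involution among the images of `K` is `W`. -/
theorem mu_invol {a : G} (ha : a ∈ c.K) (h2 : c.sig (g⁻¹ * a * g) * c.sig (g⁻¹ * a * g) = 1)
    (h1 : c.sig (g⁻¹ * a * g) ≠ 1) : c.sig (g⁻¹ * a * g) = pW := by
  obtain ⟨e, m, hm, hord⟩ := Nat.exists_eq_two_pow_mul_odd (n := orderOf a) (orderOf_pos a).ne'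
  have hb : c.sig (g⁻¹ * a ^ m * g) = c.sig (g⁻¹ * a * g) := by
    rw [c.mu_pow hg ha]
    obtain ⟨j, rfl⟩ := hm
    rw [pow_succ, pow_mul, pow_two, h2, one_pow, one_mul]
  have hob : orderOf (a ^ m) = 2 ^ e := by
    rw [orderOf_pow' a (by rintro rfl; simp at hm), hord,
      Nat.gcd_eq_right ⟨2 ^ e, mul_comm _ _⟩, Nat.mul_div_cancel _ hm.pos]
  rcases Nat.eq_zero_or_pos e with rfl | he
  · rw [pow_zero, orderOf_eq_one_iff] at hob
    rw [hob, mul_one, inv_mul_cancel, c.sig_one] at hb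
    exact absurd hb.symm h1
  · obtain ⟨e', rfl⟩ : ∃ e', e = e' + 1 := ⟨e - 1, by omega⟩
    have hb2 : orderOf ((a ^ m) ^ 2 ^ e') = 2 := by
      rw [orderOf_pow' _ (by positivity), hob, Nat.gcd_eq_right (pow_dvd_pow 2 (Nat.le_succ e')), pow_succ,
        Nat.mul_div_cancel_left _ (by positivity)]
    have hz := c.K_invol hg (c.K.pow_mem (c.K.pow_mem ha m) _) hb2
    rcases Nat.eq_zero_or_pos e' with rfl | he'
    · rw [pow_zero, pow_one] at hz
      rw [← hb, hz, hg, c.sig_iota, c.piX_W]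
    · exfalso
      have h := c.mu_pow hg (c.K.pow_mem ha m) (2 ^ e')
      rw [hz, hb, hg, c.sig_iota, c.piX_W] at h
      obtain ⟨j, rfl⟩ : ∃ j, e' = j + 1 := ⟨e' - 1, by omega⟩
      rw [pow_succ', pow_mul, pow_two, h2, one_pow] at h
      exact pW_facts.2.1 h

/-- An image of order three of an element of `K` is trivial. -/
theorem mu_three {k : G} (hk : k ∈ c.K) (h3 : c.sig (g⁻¹ * k * g) ^ 3 = 1) : c.sig (g⁻¹ * k * g) = 1 := by
  by_contra h1
  obtain ⟨v, hvs, hv3, hvW, r2, r1, rW⟩ := three_spec (c.sig_mu_W hg hk) h3 h1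
  obtain ⟨y, hy, hy3⟩ := c.exists_lift_cube hvs hv3
  have hyW : c.ι c.xW * c.ι y = c.ι y * c.ι c.xW := c.commute_three (c.iota_mem_N _) hy3 (by
    rw [c.sig_iota, c.piX_W, hy, hvW])
  have hn : g * c.ι y * g⁻¹ ∈ c.N := c.mem_N.mpr (by
    conv_lhs => rw [← c.g_conj_W hg]
    conv_rhs => rw [← c.g_conj_W hg]
    calc g * c.ι y * g⁻¹ * (g * c.ι c.xW * g⁻¹) = g * (c.ι y * c.ι c.xW) * g⁻¹ := by group
      _ = g * (c.ι c.xW * c.ι y) * g⁻¹ := by rw [hyW]
      _ = _ := by group)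
  have ha : g * c.ι y * g⁻¹ * k * (g * c.ι y * g⁻¹)⁻¹ * k⁻¹ ∈ c.K :=
    c.K.mul_mem (c.conj_K hn hk) (c.K.inv_mem hk)
  have hkN := (c.conj_mem_N hg hk).1
  have e : c.sig (g⁻¹ * (g * c.ι y * g⁻¹ * k * (g * c.ι y * g⁻¹)⁻¹ * k⁻¹) * g) =
      v * c.sig (g⁻¹ * k * g) * v⁻¹ * (c.sig (g⁻¹ * k * g))⁻¹ := by
    rw [show g⁻¹ * (g * c.ι y * g⁻¹ * k * (g * c.ι y * g⁻¹)⁻¹ * k⁻¹) * g =
        c.ι y * (g⁻¹ * k * g) * (c.ι y)⁻¹ * (g⁻¹ * k * g)⁻¹ by group,
      c.sig_mul (c.N.mul_mem (c.N.mul_mem (c.iota_mem_N y) hkN) (c.N.inv_mem (c.iota_mem_N y)))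
        (c.N.inv_mem hkN),
      c.sig_mul (c.N.mul_mem (c.iota_mem_N y) hkN) (c.N.inv_mem (c.iota_mem_N y)),
      c.sig_mul (c.iota_mem_N y) hkN, c.sig_inv (c.iota_mem_N y), c.sig_inv hkN, c.sig_iota, hy]
  rw [← e] at r2 r1 rW
  exact rW (c.mu_invol hg ha r2 r1)

/-- The elements of odd order of `K` are carried into `K` by `g`. -/
theorem odd_conj_mem {k : G} (hk : k ∈ c.K) (ho : Odd (orderOf k)) : g⁻¹ * k * g ∈ c.K := by
  refine (c.sig_eq_one_iff (c.conj_mem_N hg hk).1).mp (c.mu_three hg hk ?_)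
  set q := c.sig (g⁻¹ * k * g) with hq
  have hodd : q ^ orderOf k = 1 := by
    rw [hq, ← c.mu_pow hg hk, pow_orderOf_eq_one, mul_one, inv_mul_cancel, c.sig_one]
  have h1 : orderOf q ∣ 2 ^ 3 * 3 := orderOf_dvd_of_pow_eq_one (pow_24 (c.sig_mu_W hg hk))
  have h2 : Nat.Coprime (orderOf q) (2 ^ 3) :=
    (Nat.coprime_two_right.mpr (ho.of_dvd_nat (orderOf_dvd_of_pow_eq_one hodd))).pow_right 3
  exact orderOf_dvd_iff_pow_eq_one.mp (h2.dvd_of_dvd_mul_left h1)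

/-- `g` permutes the elements of odd order of `K`. -/
theorem exists_conj_odd {e : G} (he : e ∈ c.K) (ho : Odd (orderOf e)) :
    g * e * g⁻¹ ∈ c.K := by
  let S := {k : G // k ∈ c.K ∧ Odd (orderOf k)}
  let f : S → S := fun k => ⟨g⁻¹ * k.1 * g, c.odd_conj_mem hg k.2.1 k.2.2, by
    rw [show g⁻¹ * k.1 * g = MulAut.conj g⁻¹ k.1 by simp, MulEquiv.orderOf_eq]; exact k.2.2⟩
  have hinj : Function.Injective f := fun a b h =>
    Subtype.ext (mul_left_cancel (mul_right_cancel (congrArg Subtype.val h)))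
  obtain ⟨k, hk⟩ := Finite.surjective_of_injective hinj ⟨e, he, ho⟩
  have he' : g⁻¹ * k.1 * g = e := congrArg Subtype.val hk
  rw [← he', show g * (g⁻¹ * k.1 * g) * g⁻¹ = k.1 by group]
  exact k.2.1

/-- An element of `K` acts on the other side trivially or as `W`. -/
theorem mu_cases {k : G} (hk : k ∈ c.K) : c.sig (g⁻¹ * k * g) = 1 ∨ c.sig (g⁻¹ * k * g) = pW := by
  by_contra hcon
  push Not at hcon
  set q := c.sig (g⁻¹ * k * g) with hq
  have hqW : q * pW = pW * q := c.sig_mu_W hg hk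
  have h8 : q ^ 8 = 1 := by
    have h := c.mu_three hg (c.K.pow_mem hk 8) (by
      rw [c.mu_pow hg hk, ← hq, ← pow_mul, show 8 * 3 = 24 by rfl, pow_24 hqW])
    rwa [c.mu_pow hg hk, ← hq] at h
  obtain ⟨j, ⟨r2, r1, rW⟩ | ⟨rW, hr⟩⟩ := two_spec hqW h8 hcon.1 hcon.2
  · refine rW ?_
    rw [hq, ← c.mu_pow hg hk] at r2 r1 ⊢
    exact c.mu_invol hg (c.K.pow_mem hk j) r2 r1
  obtain ⟨yw, hyw⟩ := c.conj_mem (c.g_props hg).1 (c.g_props hg).2
  obtain ⟨ls, l3s, lne, lW⟩ := vS_facts _ (show vS.head (by simp [vS]) ∈ vS from List.head_mem _)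
  obtain ⟨l, hl, hl3⟩ := c.exists_lift_cube ls l3s
  have hlW' := c.commute_three (c.iota_mem_N c.xW) hl3 (by rw [c.sig_iota, c.piX_W, hl, lW])
  rw [← map_mul, ← map_mul] at hlW'
  have hlW : c.xW * l = l * c.xW := c.inj hlW'
  set x := c.ι (yw⁻¹ * l * yw) with hx
  set e := g⁻¹ * x * g with he
  have hxw : x * (g * c.z * g⁻¹) = g * c.z * g⁻¹ * x := by
    rw [hyw, hx, ← map_mul, ← map_mul]
    congr 1
    calc yw⁻¹ * l * yw * (yw⁻¹ * c.xW * yw) = yw⁻¹ * (l * c.xW) * yw := by group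
      _ = yw⁻¹ * (c.xW * l) * yw := by rw [hlW]
      _ = _ := by group
  have heN : e ∈ c.N := c.mem_N.mpr (by
    calc e * c.z = g⁻¹ * (x * (g * c.z * g⁻¹)) * g := by rw [he]; group
      _ = g⁻¹ * (g * c.z * g⁻¹ * x) * g := by rw [hxw]
      _ = _ := by rw [he]; group)
  have heW : e * c.ι c.xW = c.ι c.xW * e := by
    rw [← hg, he]
    calc g⁻¹ * x * g * (g⁻¹ * c.z * g) = g⁻¹ * (x * c.z) * g := by group
      _ = g⁻¹ * (c.z * x) * g := by rw [hx, c.mem_N.mp (c.iota_mem_N _)]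
      _ = _ := by group
  have hj := c.K.pow_mem hk j
  have hek : e * (g⁻¹ * k ^ j * g) = g⁻¹ * k ^ j * g * e := by
    rw [he]
    calc g⁻¹ * x * g * (g⁻¹ * k ^ j * g) = g⁻¹ * (x * k ^ j) * g := by group
      _ = g⁻¹ * (k ^ j * x) * g := by rw [hx, c.mem_K.mp hj]
      _ = _ := by group
  have he3 : e * e * e = 1 := by
    rw [he]
    calc g⁻¹ * x * g * (g⁻¹ * x * g) * (g⁻¹ * x * g) = g⁻¹ * (x * x * x) * g := by group
      _ = 1 := by
        rw [hx, ← map_mul, ← map_mul, show yw⁻¹ * l * yw * (yw⁻¹ * l * yw) * (yw⁻¹ * l * yw) =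
          yw⁻¹ * (l * l * l) * yw by group, hl3, mul_one, inv_mul_cancel, map_one, mul_one, inv_mul_cancel]
  have hse : c.sig e = 1 := by
    refine hr _ ?_ ?_ ?_
    · have h := c.commute_sig heN (c.iota_mem_N _) heW
      rwa [c.sig_iota, c.piX_W] at h
    · rw [← c.sig_mul heN heN, ← c.sig_mul (c.N.mul_mem heN heN) heN, he3, c.sig_one]
    · have h := c.commute_sig heN (c.conj_mem_N hg hj).1 hek
      rwa [c.mu_pow hg hk] at h
  have hxK : x ∈ c.K := by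
    have := c.exists_conj_odd hg ((c.sig_eq_one_iff heN).mp hse)
      (Odd.of_dvd_nat (show Odd 3 by decide) (orderOf_dvd_of_pow_eq_one (by
        rw [pow_succ, pow_two]; exact he3)))
    rwa [he, show g * (g⁻¹ * x * g) * g⁻¹ = x by group] at this
  have h := (c.sig_eq_one_iff (c.K_le_N hxK)).mpr hxK
  rw [hx, c.sig_iota, map_mul, map_mul, map_inv] at h
  refine lne ?_
  rw [← hl]
  calc c.piX l = c.piX yw * ((c.piX yw)⁻¹ * c.piX l * c.piX yw) * (c.piX yw)⁻¹ := by group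
    _ = 1 := by rw [h, mul_one, mul_inv_cancel]

/-- the odd part of `K` -/
noncomputable def D (_ : g⁻¹ * c.z * g = c.ι c.xW) : Subgroup G :=
  c.K ⊓ c.K.map (MulAut.conj g).toMonoidHom

theorem mem_D {d : G} : d ∈ c.D hg ↔ d ∈ c.K ∧ g⁻¹ * d * g ∈ c.K := by
  rw [D, Subgroup.mem_inf, Subgroup.map_equiv_eq_comap_symm']
  simp [Subgroup.mem_comap]

theorem D_odd : Odd (Nat.card (c.D hg)) := by
  rw [← Nat.not_even_iff_odd]
  intro hev
  haveI : Fact (Nat.Prime 2) := ⟨Nat.prime_two⟩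
  obtain ⟨u, hu⟩ := exists_prime_orderOf_dvd_card' (G := c.D hg) 2 hev.two_dvd
  obtain ⟨h1, h2⟩ := (c.mem_D hg).mp u.2
  rw [← Subgroup.orderOf_coe] at hu
  have hz := c.K_invol hg h1 hu
  rw [hz, hg] at h2
  have h := (c.sig_eq_one_iff (c.iota_mem_N _)).mpr h2
  rw [c.sig_iota, c.piX_W] at h
  exact pW_facts.2.1 h

theorem odd_mem_D {k : G} (hk : k ∈ c.K) (ho : Odd (orderOf k)) : k ∈ c.D hg :=
  (c.mem_D hg).mpr ⟨hk, c.odd_conj_mem hg hk ho⟩

theorem orderOf_D {d : G} (hd : d ∈ c.D hg) : Odd (orderOf d) :=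
  Odd.of_dvd_nat (c.D_odd hg) (Subgroup.orderOf_dvd_natCard _ hd)

/-- `K = D ∪ zD` -/
theorem K_cases {k : G} (hk : k ∈ c.K) : k ∈ c.D hg ∨ c.z * k ∈ c.D hg := by
  rcases c.mu_cases hg hk with h | h
  · exact Or.inl ((c.mem_D hg).mpr ⟨hk, (c.sig_eq_one_iff (c.conj_mem_N hg hk).1).mp h⟩)
  · have hzk := c.K.mul_mem c.z_mem_K hk
    refine Or.inr ((c.mem_D hg).mpr ⟨hzk, (c.sig_eq_one_iff (c.conj_mem_N hg hzk).1).mp ?_⟩)
    rw [c.mu_mul hg c.z_mem_K hk, hg, c.sig_iota, c.piX_W, h, pW_facts.1]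

theorem N_normalises_D {n d : G} (hn : n ∈ c.N) (hd : d ∈ c.D hg) : n * d * n⁻¹ ∈ c.D hg :=
  c.odd_mem_D hg (c.conj_K hn ((c.mem_D hg).mp hd).1)
    (by rw [← MulAut.conj_apply, MulEquiv.orderOf_eq]; exact c.orderOf_D hg hd)

theorem g_normalises_D : g ∈ Subgroup.normalizer (c.D hg : Set G) := by
  refine Subgroup.mem_normalizer_iff.mpr fun d => ⟨fun hd => ?_, fun hd => ?_⟩
  · exact c.odd_mem_D hg (c.exists_conj_odd hg ((c.mem_D hg).mp hd).1 (c.orderOf_D hg hd))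
      (by rw [← MulAut.conj_apply, MulEquiv.orderOf_eq]; exact c.orderOf_D hg hd)
  · have h := c.odd_mem_D hg ((c.mem_D hg).mp hd).2
      (by rw [show g⁻¹ * (g * d * g⁻¹) * g = MulAut.conj g⁻¹ (g * d * g⁻¹) by simp, MulEquiv.orderOf_eq]
          exact c.orderOf_D hg hd)
    rwa [show g⁻¹ * (g * d * g⁻¹) * g = d by group] at h

/-- The elements of 2-power order of `K` are `1` and `z`. -/
theorem K_two_elem {k : G} (hk : k ∈ c.K) {e : ℕ} (he : k ^ 2 ^ e = 1) : k = 1 ∨ k = c.z := by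
  have key : ∀ d, d ∈ c.D hg → d ^ 2 ^ e = 1 → d = 1 := fun d hd h => by
    have h1 := orderOf_dvd_of_pow_eq_one h
    exact orderOf_eq_one_iff.mp (Nat.eq_one_of_dvd_coprimes
      (Nat.Coprime.pow_right e (Nat.coprime_two_right.mpr (c.orderOf_D hg hd))) dvd_rfl h1)
  rcases c.K_cases hg hk with h | h
  · exact Or.inl (key k h he)
  · rcases Nat.eq_zero_or_pos e with rfl | hpos
    · exact Or.inl (by rwa [pow_zero, pow_one] at he)
    refine Or.inr ?_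
    have h1 := key _ h (by
      obtain ⟨j, rfl⟩ : ∃ j, e = j + 1 := ⟨e - 1, by omega⟩
      rw [(show Commute c.z k from (c.mem_N.mp (c.K_le_N hk)).symm).mul_pow, he, pow_succ', pow_mul, pow_two,
        c.z_sq, one_pow, one_mul])
    calc k = c.z⁻¹ * (c.z * k) := by group
      _ = c.z := by rw [h1, mul_one, inv_eq_of_mul_eq_one_left c.z_sq]

end Ctx

end CfsgLib.McLStd
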