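import Cfsg.Agent.Lib.McLUniq.Fpf
import Cfsg.Agent.Lib.McLUniq.Checks
import Cfsg.Agent.Lib.InvTwoS6.Data

/-!
Facts about the centralisers of involutions in the symmetric group on eight points.
-/

set_option autoImplicit false
set_option maxRecDepth 100000

open scoped commutatorElement

namespace CfsgLib.McLStd

open Equiv CfsgLib.SpinAlt CfsgLib.McLUniq CfsgLib.CosetEnum

/-- a product of transpositions -/
def sP (l : List (Fin 8 × Fin 8)) : Perm (Fin 8) := (l.map fun t => swap t.1 t.2).prod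

/-- the fixed-point-free involution -/
def pW : Perm (Fin 8) := sP [(0, 6), (1, 7), (2, 4), (3, 5)]

theorem pW_word : prodW (seq cyc) wU = pW := by decide +kernel

theorem pW_facts : pW * pW = 1 ∧ pW ≠ 1 ∧ Perm.sign pW = 1 ∧ (∀ x, pW x ≠ x) := by decide +kernel

/-! ### Lists of values -/

/-- the list of values -/
def toL (q : Perm (Fin 8)) : List ℕ := List.ofFn fun x => (q x : ℕ)

/-- the composite -/
def mulL (a b : List ℕ) : List ℕ := b.map fun i => a.getD i 0

/-- the identity -/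
def oneL : List ℕ := [0, 1, 2, 3, 4, 5, 6, 7]

/-- the involution -/
def wL : List ℕ := [6, 7, 4, 5, 2, 3, 0, 1]

/-- powers -/
def pwL : ℕ → List ℕ → List ℕ
  | 0, _ => oneL
  | n + 1, a => mulL (pwL n a) a

theorem getD_toL (q : Perm (Fin 8)) (x : Fin 8) : (toL q).getD x.1 0 = (q x : ℕ) := by
  rw [List.getD_eq_getElem _ _ (by simp [toL])]
  simp only [toL, List.getElem_ofFn]

theorem toL_mul (p q : Perm (Fin 8)) : toL (p * q) = mulL (toL p) (toL q) := by
  show List.ofFn _ = List.map _ (List.ofFn _)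
  rw [List.map_ofFn]
  exact congrArg List.ofFn (funext fun x => (getD_toL p (q x)).symm)

theorem toL_one : toL 1 = oneL := rfl

theorem toL_W : toL pW = wL := by decide +kernel

theorem toL_pow (q : Perm (Fin 8)) : ∀ n, toL (q ^ n) = pwL n (toL q)
  | 0 => toL_one
  | n + 1 => by rw [pow_succ, toL_mul, toL_pow q n]; rfl

theorem toL_inj {p q : Perm (Fin 8)} : toL p = toL q ↔ p = q :=
  ⟨fun h => Equiv.ext fun x => Fin.ext (congrFun (List.ofFn_injective h) x), fun h => h ▸ rfl⟩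

/-- a map commuting with the involution from four values -/
def candL (a b c d : ℕ) : List ℕ := [a, b, c, d, wL.getD c 0, wL.getD d 0, wL.getD a 0, wL.getD b 0]

/-- the candidates for a centraliser element -/
def cands : List (List ℕ) :=
  (List.range 8).flatMap fun a => (List.range 8).flatMap fun b => (List.range 8).flatMap fun c =>
    (List.range 8).filterMap fun d =>
      if (candL a b c d).Nodup then some (candL a b c d) else none

theorem mem_cands {q : Perm (Fin 8)} (h : q * pW = pW * q) : toL q ∈ cands := by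
  have hw : ∀ x : Fin 8, (q (pW x) : ℕ) = wL.getD (q x : ℕ) 0 := fun x => by
    rw [← toL_W, getD_toL, ← Perm.mul_apply, h, Perm.mul_apply]
  have e : candL (q 0 : ℕ) (q 1 : ℕ) (q 2 : ℕ) (q 3 : ℕ) = toL q := by
    rw [candL, ← hw 0, ← hw 1, ← hw 2, ← hw 3, show pW 0 = 6 by decide, show pW 1 = 7 by decide,
      show pW 2 = 4 by decide, show pW 3 = 5 by decide]
    simp [toL, List.ofFn_succ]
  simp only [cands, List.mem_flatMap, List.mem_range, List.mem_filterMap]
  refine ⟨_, (q 0).2, _, (q 1).2, _, (q 2).2, _, (q 3).2, ?_⟩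
  rw [e, if_pos (show (toL q).Nodup from List.nodup_ofFn.mpr (Fin.val_injective.comp q.injective))]

/-- an involution other than the given one -/
def invL (r : List ℕ) : Bool := mulL r r == oneL && r != oneL && r != wL

theorem invL_iff {r : Perm (Fin 8)} : invL (toL r) = true ↔ r * r = 1 ∧ r ≠ 1 ∧ r ≠ pW := by
  simp only [invL, Bool.and_eq_true, bne_iff_ne, beq_iff_eq, ← toL_mul, ← toL_one, ← toL_W, ne_eq, toL_inj,
    and_assoc]

/-! ### Three-elements of the centraliser -/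

/-- witnesses for the commutators -/
def vS : List (List (Fin 8 × Fin 8)) :=
  [[(1, 2), (2, 3), (4, 5), (5, 7)],
   [(1, 2), (2, 5), (3, 7), (7, 4)],
   [(1, 3), (3, 4), (2, 7), (7, 5)]]

theorem vS_facts : ∀ l ∈ vS, Perm.sign (sP l) = 1 ∧ sP l * sP l * sP l = 1 ∧ sP l ≠ 1 ∧
    sP l * pW = pW * sP l := by
  decide +kernel

/-- the check for elements of order three -/
def threeOK (q : List ℕ) : Bool :=
  pwL 3 q != oneL || q == oneL ||
    vS.any fun l => invL (mulL (mulL (toL (sP l)) q) (mulL (pwL 2 (toL (sP l))) (pwL 2 q)))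

theorem three_chk : cands.all threeOK = true := by decide +kernel

/-- A non-trivial element of order three has a commutator which is a second involution. -/
theorem three_spec {q : Perm (Fin 8)} (hW : q * pW = pW * q) (h3 : q ^ 3 = 1) (h1 : q ≠ 1) :
    ∃ v : Perm (Fin 8), Perm.sign v = 1 ∧ v * v * v = 1 ∧ v * pW = pW * v ∧
      (v * q * v⁻¹ * q⁻¹) * (v * q * v⁻¹ * q⁻¹) = 1 ∧ v * q * v⁻¹ * q⁻¹ ≠ 1 ∧ v * q * v⁻¹ * q⁻¹ ≠ pW := by
  have h := List.all_eq_true.1 three_chk _ (mem_cands hW)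
  simp only [threeOK, Bool.or_eq_true, bne_iff_ne, beq_iff_eq, List.any_eq_true] at h
  rw [← toL_pow, h3, toL_one] at h
  rcases h with (h | h) | ⟨l, hl, h⟩
  · exact absurd rfl h
  · exact absurd (toL_inj.1 (h.trans toL_one.symm)) h1
  · obtain ⟨hs, h3v, -, hc⟩ := vS_facts l hl
    refine ⟨sP l, hs, h3v, hc, ?_⟩
    rw [← toL_pow, ← toL_pow, ← toL_mul, ← toL_mul, ← toL_mul, invL_iff] at h
    have ev : (sP l)⁻¹ = sP l ^ 2 := inv_eq_of_mul_eq_one_left (by rw [pow_two]; exact h3v)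
    have eq : q⁻¹ = q ^ 2 := inv_eq_of_mul_eq_one_left (by rw [← pow_succ, h3])
    rw [ev, eq, mul_assoc (sP l * q)]
    exact h

/-- the elements of order three among the candidates -/
def threesL : List (List ℕ) := cands.filter fun x => pwL 3 x == oneL && x != oneL

/-- the check for 2-elements -/
def twoOK (q : List ℕ) : Bool :=
  pwL 8 q != oneL || q == oneL || q == wL ||
    [1, 2, 4].any fun j =>
      invL (pwL j q) || (mulL (pwL j q) (pwL j q) == wL &&
        threesL.all fun x => mulL x (pwL j q) != mulL (pwL j q) x)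

theorem two_chk : cands.all twoOK = true := by decide +kernel

/-- A 2-element outside `⟨W⟩` has a power which is a second involution or a square root of `W` commuting
with no element of order three. -/
theorem two_spec {q : Perm (Fin 8)} (hW : q * pW = pW * q) (h8 : q ^ 8 = 1) (h1 : q ≠ 1) (hqW : q ≠ pW) :
    ∃ j : ℕ, (q ^ j * q ^ j = 1 ∧ q ^ j ≠ 1 ∧ q ^ j ≠ pW) ∨
      (q ^ j * q ^ j = pW ∧ ∀ x : Perm (Fin 8), x * pW = pW * x → x * x * x = 1 →
        x * q ^ j = q ^ j * x → x = 1) := by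
  have h := List.all_eq_true.1 two_chk _ (mem_cands hW)
  simp only [twoOK, Bool.or_eq_true, bne_iff_ne, beq_iff_eq, List.any_eq_true, Bool.and_eq_true,
    List.all_eq_true] at h
  rw [← toL_pow, h8, toL_one] at h
  rcases h with ((h | h) | h) | ⟨j, -, h | ⟨h, hx⟩⟩
  · exact absurd rfl h
  · exact absurd (toL_inj.1 (h.trans toL_one.symm)) h1
  · exact absurd (toL_inj.1 (h.trans toL_W.symm)) hqW
  · exact ⟨j, Or.inl (invL_iff.1 (by rwa [toL_pow]))⟩
  · refine ⟨j, Or.inr ⟨toL_inj.1 (by rw [toL_mul, toL_pow, h, toL_W]), fun x hxW hx3 hxq => ?_⟩⟩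
    by_contra hx1
    refine hx (toL x) (List.mem_filter.2 ⟨mem_cands hxW, ?_⟩) ?_
    · simp only [Bool.and_eq_true, beq_iff_eq, bne_iff_ne, ne_eq]
      rw [← toL_pow, pow_succ, pow_two, hx3, toL_one]
      exact ⟨rfl, fun e => hx1 (toL_inj.1 (e.trans toL_one.symm))⟩
    · rw [← toL_pow, ← toL_mul, ← toL_mul, hxq]

theorem exponent_chk : cands.all (fun q => pwL 24 q == oneL) = true := by decide +kernel

theorem pow_24 {q : Perm (Fin 8)} (hW : q * pW = pW * q) : q ^ 24 = 1 := by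
  have h := List.all_eq_true.1 exponent_chk _ (mem_cands hW)
  rw [beq_iff_eq, ← toL_pow] at h
  exact toL_inj.1 (h.trans toL_one.symm)

/-- elements of order three moving the involution -/
def moveS : List (List (Fin 8 × Fin 8)) :=
  [[(1, 2), (2, 3), (4, 7), (7, 5)],
   [(0, 1), (1, 2), (4, 7), (7, 6)],
   [(0, 1), (1, 3), (5, 7), (7, 6)],
   [(0, 2), (2, 3), (4, 6), (6, 5)],
   [(3, 4), (4, 5)],
   [(3, 5), (5, 6)],
   [(3, 5), (5, 7)],
   [(1, 2), (2, 5), (3, 4), (4, 7)],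
   [(2, 3), (3, 6), (4, 7), (7, 5)],
   [(2, 4), (4, 7)],
   [(2, 4), (4, 6), (3, 5), (5, 7)],
   [(1, 2), (2, 3), (5, 6), (6, 7)],
   [(1, 2), (2, 3), (4, 7), (7, 6)],
   [(1, 2), (2, 5), (4, 7), (7, 6)],
   [(1, 2), (2, 5), (3, 6), (6, 7)]]

theorem moveS_facts : ∀ l ∈ moveS, Perm.sign (sP l) = 1 ∧ sP l * sP l * sP l = 1 ∧
    sP l * pW ≠ pW * sP l := by
  decide +kernel

/-- the check for second involutions -/
def moveOK (q : List ℕ) : Bool :=
  !invL q || moveS.any fun l => mulL (toL (sP l)) q == mulL q (toL (sP l)) ||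
    mulL (toL (sP l)) (mulL q wL) == mulL (mulL q wL) (toL (sP l))

theorem move_chk : cands.all moveOK = true := by decide +kernel

/-- An element of order three moving `W` centralises a second involution or its product with `W`. -/
theorem exists_move {q : Perm (Fin 8)} (hW : q * pW = pW * q) (h2 : q * q = 1) (h1 : q ≠ 1) (hqW : q ≠ pW) :
    ∃ x : Perm (Fin 8), Perm.sign x = 1 ∧ x * x * x = 1 ∧ x * pW ≠ pW * x ∧
      (x * q = q * x ∨ x * (q * pW) = q * pW * x) := by
  have h := List.all_eq_true.1 move_chk _ (mem_cands hW)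
  simp only [moveOK, Bool.or_eq_true, List.any_eq_true, beq_iff_eq, Bool.not_eq_true',
    invL_iff.2 ⟨h2, h1, hqW⟩, Bool.true_eq_false, false_or] at h
  obtain ⟨l, hl, h⟩ := h
  rw [← toL_W, ← toL_mul, ← toL_mul, ← toL_mul, ← toL_mul, ← toL_mul, toL_inj, toL_inj] at h
  obtain ⟨hs, h3, hm⟩ := moveS_facts l hl
  exact ⟨sP l, hs, h3, hm, h⟩

/-! ### Every involution -/

/-- the standard involutions -/
def stdI : List (List (Fin 8 × Fin 8)) :=
  [[(0, 1)], [(0, 1), (2, 3)], [(0, 1), (2, 3), (4, 5)], [(0, 1), (2, 3), (4, 5), (6, 7)]]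

/-- four elements of order three for each of them -/
def quadS : List (List (List (Fin 8 × Fin 8))) :=
  [[[(5, 6), (6, 7)], [(4, 5), (5, 6)], [(5, 6), (6, 7)], [(4, 6), (6, 5)]],
   [[(5, 6), (6, 7)], [(4, 5), (5, 6)], [(5, 6), (6, 7)], [(4, 6), (6, 5)]],
   [[(0, 2), (2, 4), (1, 3), (3, 5)], [(0, 2), (2, 5), (1, 3), (3, 4)], [(0, 2), (2, 4), (1, 3), (3, 5)],
    [(0, 3), (3, 5), (1, 2), (2, 4)]],
   [[(2, 4), (4, 6), (3, 5), (5, 7)], [(2, 4), (4, 7), (3, 5), (5, 6)], [(2, 4), (4, 6), (3, 5), (5, 7)],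
    [(2, 5), (5, 7), (3, 4), (4, 6)]]]

/-- the four elements of a standard involution -/
def quad (i k : ℕ) : Perm (Fin 8) := sP ((quadS.getD i []).getD k [])

theorem stdI_facts : ∀ i < 4, sP (stdI.getD i []) * sP (stdI.getD i []) = 1 ∧
    (sP (stdI.getD i [])).support.card = 2 * (i + 1) := by
  decide +kernel

theorem quad_facts : ∀ i < 4, (∀ k < 4, Perm.sign (quad i k) = 1 ∧ quad i k * quad i k * quad i k = 1 ∧
    quad i k * sP (stdI.getD i []) = sP (stdI.getD i []) * quad i k) ∧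
    (⁅quad i 0, quad i 1⁆ * ⁅quad i 0, quad i 1⁆ = 1 ∧ ⁅quad i 0, quad i 1⁆.support.card = 4) ∧
    (⁅quad i 2, quad i 3⁆ * ⁅quad i 2, quad i 3⁆ = 1 ∧ ⁅quad i 2, quad i 3⁆.support.card = 4) ∧
    (⁅quad i 0, quad i 1⁆ * ⁅quad i 2, quad i 3⁆ = ⁅quad i 2, quad i 3⁆ * ⁅quad i 0, quad i 1⁆ ∧
      (⁅quad i 0, quad i 1⁆ * ⁅quad i 2, quad i 3⁆).support.card = 4) := by
  simp only [commutatorElement_def]
  decide +kernel

theorem isDouble_of {d : Perm (Fin 8)} (h2 : d * d = 1) (h4 : d.support.card = 4) : IsDouble d := by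
  obtain ⟨g, hg⟩ := isConj_iff.mp (InvTwoS6.isConj_of_support (u := swap (0 : Fin 8) 1 * swap 2 3) (v := d)
    (by decide +kernel) h2 (by rw [h4]; decide +kernel))
  exact hg ▸ double_conj g swaps_double

theorem involution_std {τ : Perm (Fin 8)} (h2 : τ * τ = 1) (h1 : τ ≠ 1) :
    ∃ i < 4, ∃ σ : Perm (Fin 8), σ * sP (stdI.getD i []) * σ⁻¹ = τ := by
  obtain ⟨n, hn⟩ := Perm.cycleType_prime_order (σ := τ)
    (by rw [orderOf_eq_prime (p := 2) (by rw [pow_two, h2]) h1]; exact Nat.prime_two)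
  rw [orderOf_eq_prime (p := 2) (by rw [pow_two, h2]) h1] at hn
  have hs := τ.sum_cycleType
  rw [hn, Multiset.sum_replicate, smul_eq_mul] at hs
  have hc : τ.support.card ≤ 8 := (Finset.card_le_univ _).trans (by simp)
  have hi : n < 4 := by omega
  obtain ⟨f1, f2⟩ := stdI_facts n hi
  exact ⟨n, hi, isConj_iff.mp (InvTwoS6.isConj_of_support f1 h2 (by omega))⟩

/-- Four elements of order three centralise an involution, with two commutators giving a four-group of
double transpositions. -/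
theorem exists_quad {τ : Perm (Fin 8)} (h2 : τ * τ = 1) (h1 : τ ≠ 1) :
    ∃ p : Fin 4 → Perm (Fin 8), (∀ k, Perm.sign (p k) = 1 ∧ p k * p k * p k = 1 ∧ p k * τ = τ * p k) ∧
      IsDouble ⁅p 0, p 1⁆ ∧ IsDouble ⁅p 2, p 3⁆ ∧ IsDouble (⁅p 0, p 1⁆ * ⁅p 2, p 3⁆) ∧
      ⁅p 0, p 1⁆ * ⁅p 2, p 3⁆ = ⁅p 2, p 3⁆ * ⁅p 0, p 1⁆ := by
  obtain ⟨i, hi, σ, rfl⟩ := involution_std h2 h1
  obtain ⟨hq, ⟨a2, a4⟩, ⟨b2, b4⟩, hab, ab4⟩ := quad_facts i hi
  refine ⟨fun k => MulAut.conj σ (quad i k.1), fun k => ?_, ?_, ?_, ?_, ?_⟩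
  · obtain ⟨hs, h3, hc⟩ := hq k.1 k.2
    show Perm.sign (MulAut.conj σ (quad i k.1)) = 1 ∧ _ ∧ _
    refine ⟨?_, by rw [← map_mul, ← map_mul, h3, map_one], ?_⟩
    · rw [MulAut.conj_apply, map_mul, map_mul, map_inv, hs, mul_one, mul_inv_cancel]
    · rw [← MulAut.conj_apply, ← map_mul, hc, map_mul]
  all_goals simp only [← map_commutatorElement, ← map_mul]
  · exact double_conj σ (isDouble_of a2 a4)
  · exact double_conj σ (isDouble_of b2 b4)
  · refine double_conj σ (isDouble_of ?_ ab4)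
    show ⁅quad i 0, quad i 1⁆ * ⁅quad i 2, quad i 3⁆ * (⁅quad i 0, quad i 1⁆ * ⁅quad i 2, quad i 3⁆) = 1
    conv_lhs => arg 2; rw [hab]
    calc _ = ⁅quad i 0, quad i 1⁆ * (⁅quad i 2, quad i 3⁆ * ⁅quad i 2, quad i 3⁆) * ⁅quad i 0, quad i 1⁆ := by
          group
      _ = 1 := by rw [b2, mul_one, a2]
  · exact congrArg _ hab

/-- the four moved points -/
def eFour : {x : Fin 8 // sP (stdI.getD 1 []) x ≠ x} ≃ Fin 4 where
  toFun x := ⟨x.1.1 % 4, Nat.mod_lt _ (by norm_num)⟩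
  invFun k := ⟨⟨k.1, by omega⟩, by revert k; decide +kernel⟩
  left_inv := by intro x; revert x; decide +kernel
  right_inv := by intro x; revert x; decide +kernel

theorem pair_four : ∀ a b : Perm (Fin 4), a * (swap 0 1 * swap 2 3) = swap 0 1 * swap 2 3 * a →
    b * (swap 0 1 * swap 2 3) = swap 0 1 * swap 2 3 * b →
    a * b * a⁻¹ * b⁻¹ = 1 ∨ a * b * a⁻¹ * b⁻¹ = swap 0 1 * swap 2 3 := by
  decide +kernel

/-- An involution with a fixed point is no double commutator of its centraliser. -/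
theorem not_double_comm {τ : Perm (Fin 8)} (h2 : τ * τ = 1) (h1 : τ ≠ 1) (hfix : ∃ x, τ x = x)
    {b : Fin 4 → Perm (Fin 8)} (hb : ∀ k, b k * τ = τ * b k) : ⁅⁅b 0, b 1⁆, ⁅b 2, b 3⁆⁆ ≠ τ := by
  intro he
  obtain ⟨i, hi, σ, rfl⟩ := involution_std h2 h1
  set τ₀ := sP (stdI.getD i []) with hτ₀
  set C := Subgroup.centralizer ({τ₀} : Set (Perm (Fin 8))) with hC
  let a : Fin 4 → C := fun k => ⟨MulAut.conj σ⁻¹ (b k), Subgroup.mem_centralizer_singleton_iff.mpr (by
    have e := congrArg (MulAut.conj σ⁻¹) (hb k)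
    rw [map_mul, map_mul] at e
    simpa only [MulAut.conj_apply, inv_inv, mul_assoc, inv_mul_cancel_left, inv_mul_cancel, mul_inv_cancel, mul_one] using e)⟩
  let t : C := ⟨τ₀, Subgroup.mem_centralizer_singleton_iff.mpr rfl⟩
  have ht : ⁅⁅a 0, a 1⁆, ⁅a 2, a 3⁆⁆ = t := Subtype.ext (by
    show C.subtype ⁅⁅a 0, a 1⁆, ⁅a 2, a 3⁆⁆ = τ₀
    rw [map_commutatorElement, map_commutatorElement, map_commutatorElement]
    show ⁅⁅MulAut.conj σ⁻¹ (b 0), MulAut.conj σ⁻¹ (b 1)⁆, ⁅MulAut.conj σ⁻¹ (b 2), MulAut.conj σ⁻¹ (b 3)⁆⁆ = τ₀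
    rw [← map_commutatorElement, ← map_commutatorElement, ← map_commutatorElement, he, MulAut.conj_apply]
    group)
  have hp : ∀ g : C, ∀ x : Fin 8, (τ₀ (g.1 x) ≠ g.1 x ↔ τ₀ x ≠ x) := fun g x => by
    have hg := Equiv.congr_fun (Subgroup.mem_centralizer_singleton_iff.mp g.2) x
    simp only [Perm.mul_apply] at hg
    rw [← hg, g.1.injective.ne_iff]
  let r : C →* Perm {x : Fin 8 // τ₀ x ≠ x} :=
    MonoidHom.mk' (fun g => g.1.subtypePerm (hp g)) fun g h => Equiv.ext fun x => rfl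
  have key : ∀ (j : Fin 4) (e : {x : Fin 8 // τ₀ x ≠ x} ≃ Fin (2 * (j.1 + 1))),
      j.1 = i → Perm.sign (r t) = -1 → False := fun j e _ hs => by
    rw [← ht, map_commutatorElement, map_commutatorElement, commutatorElement_eq_one_iff_mul_comm.mpr
      (mul_comm _ _)] at hs
    exact absurd hs (by decide)
  have hcard : Fintype.card {x : Fin 8 // τ₀ x ≠ x} = 2 * (i + 1) := by
    rw [Fintype.card_subtype, ← (stdI_facts i hi).2]
    rfl
  have hr : r t = τ₀.subtypePerm (hp t) := rfl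
  interval_cases i
  · exact key 0 (Fintype.equivFinOfCardEq hcard) rfl (by rw [hr, Perm.sign_subtypePerm _ (hp t) (fun x hx => hx), hτ₀]; decide +kernel)
  · let e4 : {x : Fin 8 // τ₀ x ≠ x} ≃ Fin 4 :=
      (Equiv.subtypeEquivRight fun x => by rw [hτ₀]).trans eFour
    let s : C →* Perm (Fin 4) := e4.permCongrHom.toMonoidHom.comp r
    have hst : s t = swap 0 1 * swap 2 3 := Equiv.ext fun k => Fin.ext (by
      show (τ₀ (eFour.symm k).1).1 % 4 = ((swap 0 1 * swap 2 3 : Perm (Fin 4)) k : ℕ)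
      rw [hτ₀]
      clear * - k
      revert k
      decide +kernel)
    have hcs : ∀ g : C, s g * s t = s t * s g := fun g => by
      rw [← map_mul, ← map_mul, show g * t = t * g from Subtype.ext
        (Subgroup.mem_centralizer_singleton_iff.mp g.2)]
    have h01 := pair_four (s (a 0)) (s (a 1)) (hst ▸ hcs _) (hst ▸ hcs _)
    have h23 := pair_four (s (a 2)) (s (a 3)) (hst ▸ hcs _) (hst ▸ hcs _)
    rw [← commutatorElement_def, ← map_commutatorElement, ← hst] at h01 h23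
    have e1 : s t = 1 := by
      conv_lhs => rw [← ht]
      rw [map_commutatorElement, commutatorElement_eq_one_iff_mul_comm]
      rcases h01 with h | h <;> rcases h23 with h' | h' <;> rw [h, h'] <;> simp
    rw [hst] at e1
    exact absurd e1 (by decide)
  · exact key 2 (Fintype.equivFinOfCardEq hcard) rfl (by rw [hr, Perm.sign_subtypePerm _ (hp t) (fun x hx => hx), hτ₀]; decide +kernel)
  · obtain ⟨x, hx⟩ := hfix
    have h8 : ∀ x, sP (stdI.getD 3 []) x ≠ x := by decide +kernel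
    refine h8 (σ⁻¹ x) ?_
    have h := congrArg (σ⁻¹ ·) hx
    simpa [hτ₀, Perm.mul_apply] using h

end CfsgLib.McLStd
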