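import Cfsg.Agent.Lib.McLStd.Base

/-!
The conjugates of the central involution in its centraliser lie in the copy of the cover.
-/

set_option autoImplicit false
set_option linter.style.haveILetI false
set_option linter.unusedSectionVars false

open scoped commutatorElement

namespace CfsgLib.McLStd

open Equiv CfsgLib.CosetEnum CfsgLib.McLUniq CfsgLib.SpinAlt

universe u

theorem sign_of_fpf {σ : Perm (Fin 8)} (h2 : σ * σ = 1) (hf : ∀ x, σ x ≠ x) :
    Perm.sign σ = 1 ∧ ∃ g : Perm (Fin 8), g * pW * g⁻¹ = σ := by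
  have hs : σ.support = Finset.univ := Finset.ext fun x => by simp [hf x]
  have hW : pW.support = Finset.univ := Finset.ext fun x => by simp [pW_facts.2.2.2 x]
  obtain ⟨g, hg⟩ := isConj_iff.mp (InvTwoS6.isConj_of_support pW_facts.1 h2 (by rw [hs, hW]))
  exact ⟨by rw [← hg, map_mul, map_mul, map_inv, pW_facts.2.2.1, mul_one, mul_inv_cancel], g, hg⟩

theorem pW_swap : swap (0 : Fin 8) 6 * pW = pW * swap 0 6 ∧ Perm.sign (swap (0 : Fin 8) 6) = -1 := by
  decide +kernel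

namespace Ctx

variable {G : Type u} [Group G] (c : Ctx G) [Finite G]

theorem conj_z_sq (h : G) : h * c.z * h⁻¹ * (h * c.z * h⁻¹) = 1 := by
  calc h * c.z * h⁻¹ * (h * c.z * h⁻¹) = h * (c.z * c.z) * h⁻¹ := by group
    _ = 1 := by rw [c.z_sq, mul_one, mul_inv_cancel]

theorem orderOf_conj_z (h : G) : orderOf (h * c.z * h⁻¹) = 2 := by
  rw [← MulAut.conj_apply, MulEquiv.orderOf_eq, c.orderOf_z]

theorem eq_z_of_mem {h : G} (hh : h ∈ c.N) : h * c.z * h⁻¹ = c.z := by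
  rw [c.mem_N.mp hh, mul_inv_cancel_right]

theorem not_mem_of_conj {h : G} (h1 : h * c.z * h⁻¹ ≠ c.z) : h ∉ c.N := fun hh => h1 (c.eq_z_of_mem hh)

theorem conj_inv_props {h : G} (hN : h * c.z * h⁻¹ ∈ c.N) (h1 : h * c.z * h⁻¹ ≠ c.z) :
    h⁻¹ * c.z * h⁻¹⁻¹ ∈ c.N ∧ h⁻¹ * c.z * h⁻¹⁻¹ ≠ c.z := by
  refine ⟨c.mem_N.mpr ?_, fun e => h1 ?_⟩
  · calc h⁻¹ * c.z * h⁻¹⁻¹ * c.z = h⁻¹ * (c.z * (h * c.z * h⁻¹)) * h := by group
      _ = h⁻¹ * ((h * c.z * h⁻¹) * c.z) * h := by rw [c.mem_N.mp hN]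
      _ = _ := by group
  · calc h * c.z * h⁻¹ = h * (h⁻¹ * c.z * h⁻¹⁻¹) * h⁻¹ := by rw [e]
      _ = c.z := by group

theorem sig_conj_z {h : G} (hN : h * c.z * h⁻¹ ∈ c.N) (h1 : h * c.z * h⁻¹ ≠ c.z) :
    c.sig (h * c.z * h⁻¹) * c.sig (h * c.z * h⁻¹) = 1 ∧ c.sig (h * c.z * h⁻¹) ≠ 1 := by
  refine ⟨by rw [← c.sig_mul hN hN, c.conj_z_sq, c.sig_one], fun e => c.not_mem_of_conj h1 ?_⟩
  exact c.mem_N_of_conj c.z_mem_K c.orderOf_z ((c.sig_eq_one_iff hN).mp e)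

/-- An element of order three lifts to one of order three. -/
theorem exists_lift_cube {s : Perm (Fin 8)} (hs : Perm.sign s = 1) (h3 : s * s * s = 1) :
    ∃ x : c.L, c.piX x = s ∧ x * x * x = 1 := by
  obtain ⟨xl, hxl⟩ := c.exists_lift hs
  refine ⟨xl ^ 4, ?_, ?_⟩
  · rw [map_pow, hxl, show s ^ 4 = s * s * s * s by simp [pow_succ], h3, one_mul]
  · have e : c.piX (xl ^ 3) = 1 := by rw [map_pow, hxl, show s ^ 3 = s * s * s by simp [pow_succ], h3]
    have h6 : xl ^ 6 = 1 := by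
      rw [show 6 = 3 + 3 by rfl, pow_add]
      rcases c.piX_eq_one.mp e with e | e <;> rw [e]
      · exact one_mul _
      · exact c.tX_sq
    rw [← pow_add, ← pow_add, show 4 + 4 + 4 = 6 + 6 by rfl, pow_add, h6, one_mul]

/-- An element of order three of the copy commutes with what its permutation commutes with. -/
theorem commute_three {n : G} (hn : n ∈ c.N) {x : c.L} (h3 : x * x * x = 1)
    (hc : c.piX x * c.sig n = c.sig n * c.piX x) : n * c.ι x = c.ι x * n := by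
  obtain ⟨x', hx'⟩ := c.conj_iota hn x
  have e := c.sig_spec hn hx'
  rw [← hc, mul_inv_cancel_right] at e
  rcases c.piX_eq e with e | e <;> rw [e] at hx'
  · exact mul_inv_eq_iff_eq_mul.mp hx'
  · exfalso
    refine c.tX_ne (c.inj ?_)
    rw [map_one]
    have h : c.ι (x * c.tX) * c.ι (x * c.tX) * c.ι (x * c.tX) = 1 := by
      rw [← hx']
      calc _ = n * c.ι (x * x * x) * n⁻¹ := by rw [map_mul, map_mul]; group
        _ = 1 := by rw [h3, map_one, mul_one, mul_inv_cancel]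
    rw [← map_mul, ← map_mul] at h
    have hz : Commute x c.tX := c.tX_comm x
    have e' : x * c.tX * (x * c.tX) * (x * c.tX) = c.tX := by
      calc x * c.tX * (x * c.tX) * (x * c.tX) = (x * c.tX) ^ 3 := by rw [pow_succ, pow_succ, pow_one]
        _ = x ^ 3 * c.tX ^ 3 := hz.mul_pow 3
        _ = _ := by
          rw [pow_succ, pow_succ, pow_one, h3, one_mul, pow_succ, pow_succ, pow_one, c.tX_sq, one_mul]
    rw [← h, e']

/-- The kernel element is a double commutator of elements centralising a given outer involution. -/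
theorem double_comm {w : G} (hw : w ∈ c.N) (h2 : w * w = 1) (h1 : c.sig w ≠ 1) :
    ∃ a : Fin 4 → c.L, (∀ k, w * c.ι (a k) = c.ι (a k) * w) ∧ ⁅⁅a 0, a 1⁆, ⁅a 2, a 3⁆⁆ = c.tX := by
  obtain ⟨p, hp, ha, hb, hab, hcm⟩ := exists_quad (τ := c.sig w) (by rw [← c.sig_mul hw hw, h2, c.sig_one]) h1
  choose a ha' ha3 using fun k => c.exists_lift_cube (hp k).1 (hp k).2.1
  refine ⟨a, fun k => c.commute_three hw (ha3 k) (by rw [ha']; exact (hp k).2.2), ?_⟩
  set x := ⁅a 0, a 1⁆ with hxd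
  set y := ⁅a 2, a 3⁆ with hyd
  have hx : c.piX x = ⁅p 0, p 1⁆ := by rw [hxd, map_commutatorElement, ha', ha']
  have hy : c.piX y = ⁅p 2, p 3⁆ := by rw [hyd, map_commutatorElement, ha', ha']
  refine (c.piX_eq_one.mp ?_).resolve_left fun e => ?_
  · rw [map_commutatorElement, hx, hy, commutatorElement_eq_one_iff_mul_comm, hcm]
  · rw [commutatorElement_eq_one_iff_mul_comm] at e
    have hxy := c.sq_dd (x := x * y) (by rw [map_mul, hx, hy]; exact hab)
    refine c.tX_ne ?_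
    rw [← hxy]
    calc x * y * (x * y) = x * (y * x) * y := by group
      _ = x * (x * y) * y := by rw [← e]
      _ = (x * x) * (y * y) := by group
      _ = 1 := by rw [c.sq_dd (by rw [hx]; exact ha), c.sq_dd (by rw [hy]; exact hb), c.tX_sq]

/-- The permutation of a conjugate of `z` in the normaliser moves every point. -/
theorem fpf {h : G} (hN : h * c.z * h⁻¹ ∈ c.N) (h1 : h * c.z * h⁻¹ ≠ c.z) :
    ∀ x, c.sig (h * c.z * h⁻¹) x ≠ x := by
  intro x hx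
  obtain ⟨hN', h1'⟩ := c.conj_inv_props hN h1
  obtain ⟨a, ha, hz⟩ := c.double_comm hN' (c.conj_z_sq _) (c.sig_conj_z hN' h1').2
  set w := h * c.z * h⁻¹ with hw
  have hbN : ∀ k, h * c.ι (a k) * h⁻¹ ∈ c.N := fun k => c.mem_N.mpr (by
    calc h * c.ι (a k) * h⁻¹ * c.z = h * (c.ι (a k) * (h⁻¹ * c.z * h⁻¹⁻¹)) * h⁻¹ := by group
      _ = h * ((h⁻¹ * c.z * h⁻¹⁻¹) * c.ι (a k)) * h⁻¹ := by rw [ha]
      _ = _ := by group)
  have hbw : ∀ k, h * c.ι (a k) * h⁻¹ * w = w * (h * c.ι (a k) * h⁻¹) := fun k => by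
    rw [hw, z]
    calc h * c.ι (a k) * h⁻¹ * (h * c.ι c.tX * h⁻¹) = h * (c.ι (a k * c.tX)) * h⁻¹ := by rw [map_mul]; group
      _ = h * (c.ι (c.tX * a k)) * h⁻¹ := by rw [c.tX_comm]
      _ = _ := by rw [map_mul]; group
  let b : Fin 4 → c.N := fun k => ⟨_, hbN k⟩
  have hwb : ⁅⁅b 0, b 1⁆, ⁅b 2, b 3⁆⁆ = ⟨w, hN⟩ := Subtype.ext (by
    show c.N.subtype ⁅⁅b 0, b 1⁆, ⁅b 2, b 3⁆⁆ = w
    rw [map_commutatorElement, map_commutatorElement, map_commutatorElement]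
    show ⁅⁅MulAut.conj h (c.ι (a 0)), MulAut.conj h (c.ι (a 1))⁆,
      ⁅MulAut.conj h (c.ι (a 2)), MulAut.conj h (c.ι (a 3))⁆⁆ = MulAut.conj h (c.ι c.tX)
    simp only [← map_commutatorElement]
    rw [hz])
  obtain ⟨hs, hne⟩ := c.sig_conj_z hN h1
  refine not_double_comm hs hne ⟨x, hx⟩ (b := fun k => c.sigH (b k)) (fun k => ?_) ?_
  · exact c.commute_sig (hbN k) hN (hbw k)
  · show ⁅⁅c.sigH (b 0), c.sigH (b 1)⁆, ⁅c.sigH (b 2), c.sigH (b 3)⁆⁆ = c.sigH ⟨w, hN⟩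
    rw [← map_commutatorElement, ← map_commutatorElement, ← map_commutatorElement, hwb]

/-- A fixed-point-free involution is the image of a conjugate of the lift of `W`. -/
theorem conj_perm {σ : Perm (Fin 8)} (h2 : σ * σ = 1) (hf : ∀ x, σ x ≠ x) :
    ∃ y : c.L, c.piX (y⁻¹ * c.xW * y) = σ := by
  obtain ⟨-, g, hg⟩ := sign_of_fpf h2 hf
  obtain ⟨g', hg', hs'⟩ : ∃ g', g' * pW * g'⁻¹ = σ ∧ Perm.sign g' = 1 := by
    rcases Int.units_eq_one_or (Perm.sign g) with hs | hs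
    · exact ⟨g, hg, hs⟩
    refine ⟨g * swap 0 6, ?_, by rw [map_mul, hs, pW_swap.2]; rfl⟩
    rw [mul_inv_rev, ← hg]
    calc g * swap 0 6 * pW * ((swap 0 6)⁻¹ * g⁻¹) = g * (swap 0 6 * pW) * (swap 0 6)⁻¹ * g⁻¹ := by group
      _ = g * (pW * swap 0 6) * (swap 0 6)⁻¹ * g⁻¹ := by rw [pW_swap.1]
      _ = _ := by group
  obtain ⟨y, hy⟩ := c.exists_lift hs'
  exact ⟨y⁻¹, by rw [inv_inv, map_mul, map_mul, map_inv, c.piX_W, hy, hg']⟩

/-- One class of non-central involutions in the cover. -/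
theorem conj_W0 {u : c.L} (h2 : u * u = 1) (h1 : u ≠ 1) (hT : u ≠ c.tX) :
    ∃ y : c.L, y⁻¹ * c.xW * y = u := by
  have hp2 : c.piX u * c.piX u = 1 := by rw [← map_mul, h2, map_one]
  have hp1 : c.piX u ≠ 1 := fun e => (c.piX_eq_one.mp e).elim h1 hT
  obtain ⟨-, hf⟩ := moves_all hp2 hp1 (c.sign_piX u) fun hd => c.tX_ne ((c.sq_dd hd).symm.trans h2)
  obtain ⟨y, hy⟩ := c.conj_perm hp2 hf
  rcases c.piX_eq hy with e | e
  · exact ⟨y, e.symm⟩
  · refine ⟨c.xS⁻¹ * y, ?_⟩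
    have hs : c.xS * c.xW * c.xS⁻¹ = c.xW * c.tX := by
      rw [c.xS_xW, ← c.tX_comm c.xW, mul_inv_cancel_right]
    rw [e]
    calc (c.xS⁻¹ * y)⁻¹ * c.xW * (c.xS⁻¹ * y) = y⁻¹ * (c.xS * c.xW * c.xS⁻¹) * y := by group
      _ = y⁻¹ * c.xW * (c.tX * y) := by rw [hs]; group
      _ = _ := by rw [← c.tX_comm y]; group

/-- An involution of `K` commuting with a conjugate of `z` is `z`. -/
theorem invol_K_eq {h u : G} (hN : h * c.z * h⁻¹ ∈ c.N) (h1 : h * c.z * h⁻¹ ≠ c.z) (hu : u ∈ c.K)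
    (hu2 : orderOf u = 2) (hcu : u * (h * c.z * h⁻¹) = h * c.z * h⁻¹ * u) : u = c.z := by
  by_contra hne
  have hnotN := c.not_mem_of_conj h1
  obtain ⟨hN', h1'⟩ := c.conj_inv_props hN h1
  set z' := h⁻¹ * c.z * h⁻¹⁻¹ with hz'
  set u' := h⁻¹ * u * h with hu'
  have hu'N : u' ∈ c.N := c.mem_N.mpr (by
    calc h⁻¹ * u * h * c.z = h⁻¹ * (u * (h * c.z * h⁻¹)) * h := by group
      _ = h⁻¹ * (h * c.z * h⁻¹ * u) * h := by rw [hcu]
      _ = c.z * (h⁻¹ * u * h) := by group)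
  have huu : u * u = 1 := by rw [← pow_two, ← hu2, pow_orderOf_eq_one]
  have huz : u * c.z = c.z * u := c.mem_N.mp (c.K_le_N hu)
  set μ := c.sig u' with hμ
  have hμ2 : μ * μ = 1 := by
    rw [hμ, ← c.sig_mul hu'N hu'N, show u' * u' = h⁻¹ * (u * u) * h by rw [hu']; group, huu, mul_one,
      inv_mul_cancel, c.sig_one]
  have hμ1 : μ ≠ 1 := fun e => by
    have := c.mem_N_of_conj hu hu2 (h := h⁻¹) (by rw [inv_inv]; exact (c.sig_eq_one_iff hu'N).mp e)
    exact hnotN (inv_inv h ▸ c.N.inv_mem this)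
  have hord : orderOf (u * c.z) = 2 := orderOf_eq_prime (by
    rw [pow_two]
    calc u * c.z * (u * c.z) = u * (c.z * u) * c.z := by group
      _ = u * (u * c.z) * c.z := by rw [huz]
      _ = (u * u) * (c.z * c.z) := by group
      _ = 1 := by rw [huu, c.z_sq, one_mul]) fun e' => hne (by
    calc u = u * c.z * c.z⁻¹ := by group
      _ = c.z := by rw [e', one_mul, inv_eq_of_mul_eq_one_left c.z_sq])
  have hm : u' * z' ∈ c.N := c.N.mul_mem hu'N hN'
  have huzh : h⁻¹ * (u * c.z) * h⁻¹⁻¹ = u' * z' := by rw [hu', hz']; group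
  have hμz : μ ≠ c.sig z' := fun e => by
    have hK : u' * z' ∈ c.K := (c.sig_eq_one_iff hm).mp (by
      rw [c.sig_mul hu'N hN', ← hμ, e, (c.sig_conj_z hN' h1').1])
    have := c.mem_N_of_conj (c.K.mul_mem hu c.z_mem_K) hord (h := h⁻¹) (by rw [huzh]; exact hK)
    exact hnotN (inv_inv h ▸ c.N.inv_mem this)
  obtain ⟨-, g, hg⟩ := sign_of_fpf (c.sig_conj_z hN' h1').1 (c.fpf hN' h1')
  have hcμ : μ * c.sig z' = c.sig z' * μ := c.commute_sig hu'N hN' (by
    rw [hu', hz']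
    calc h⁻¹ * u * h * (h⁻¹ * c.z * h⁻¹⁻¹) = h⁻¹ * (u * c.z) * h := by group
      _ = h⁻¹ * (c.z * u) * h := by rw [huz]
      _ = _ := by group)
  let φ := MulAut.conj g⁻¹
  have hgW : φ (c.sig z') = pW := by rw [← hg, MulAut.conj_apply]; group
  obtain ⟨x, hxs, hx3, hxW, hxc⟩ := exists_move (q := φ μ) (by rw [← hgW, ← map_mul, hcμ, map_mul])
    (by rw [← map_mul, hμ2, map_one]) (fun e => hμ1 (φ.injective (e.trans (map_one φ).symm)))
    (fun e => hμz (φ.injective (e.trans hgW.symm)))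
  obtain ⟨x, rfl⟩ := φ.surjective x
  have hxs' : Perm.sign x = 1 := by
    simpa [φ, MulAut.conj_apply, map_mul, map_inv, Int.units_inv_eq_self, mul_comm, ← mul_assoc,
      Int.units_mul_self] using hxs
  obtain ⟨l, hπl, hl3⟩ := c.exists_lift_cube hxs' (φ.injective (by rw [map_mul, map_mul, hx3, map_one]))
  -- no lift of such an element centralises a conjugate of an involution of `K`
  have key : ∀ v ∈ c.K, orderOf v = 2 → h⁻¹ * v * h ∈ c.N →
      c.piX l * c.sig (h⁻¹ * v * h) = c.sig (h⁻¹ * v * h) * c.piX l → False := by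
    intro v hv hv2 hvN hc
    have hvl := c.commute_three hvN hl3 hc
    have hmem : h * c.ι l * h⁻¹ ∈ c.N := c.centralizer_le hv hv2 (by
      calc h * c.ι l * h⁻¹ * v = h * (c.ι l * (h⁻¹ * v * h)) * h⁻¹ := by group
        _ = h * ((h⁻¹ * v * h) * c.ι l) * h⁻¹ := by rw [hvl]
        _ = _ := by group)
    have hlz : c.ι l * z' = z' * c.ι l := by
      rw [hz']
      calc c.ι l * (h⁻¹ * c.z * h⁻¹⁻¹) = h⁻¹ * ((h * c.ι l * h⁻¹) * c.z) * h := by group
        _ = h⁻¹ * (c.z * (h * c.ι l * h⁻¹)) * h := by rw [c.mem_N.mp hmem]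
        _ = _ := by group
    have e := c.commute_sig (c.iota_mem_N l) hN' hlz
    rw [c.sig_iota, hπl] at e
    exact hxW (by rw [← hgW, ← map_mul, e, map_mul])
  rcases hxc with hxc | hxc
  · exact key u hu hu2 hu'N (by rw [hπl, ← hu', ← hμ]; exact φ.injective (by rw [map_mul, map_mul, hxc]))
  · rw [inv_inv] at huzh
    refine key (u * c.z) (c.K.mul_mem hu c.z_mem_K) hord (huzh ▸ hm) ?_
    rw [huzh, hπl, c.sig_mul hu'N hN', ← hμ]
    refine φ.injective ?_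
    rw [map_mul, map_mul φ (μ * c.sig z'), map_mul φ μ, hgW]
    exact hxc

/-- The conjugates of `z` in the normaliser lie in the copy, conjugate there to `W`. -/
theorem conj_mem {h : G} (hN : h * c.z * h⁻¹ ∈ c.N) (h1 : h * c.z * h⁻¹ ≠ c.z) :
    ∃ x : c.L, h * c.z * h⁻¹ = c.ι (x⁻¹ * c.xW * x) := by
  obtain ⟨hs, hne⟩ := c.sig_conj_z hN h1
  obtain ⟨y, hπ⟩ := c.conj_perm hs (c.fpf hN h1)
  set w := h * c.z * h⁻¹ with hw
  set l := y⁻¹ * c.xW * y with hl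
  have hl2 : l * l = 1 := by
    rw [hl, show y⁻¹ * c.xW * y * (y⁻¹ * c.xW * y) = y⁻¹ * (c.xW * c.xW) * y by group, c.xW_sq]
    group
  have hlN := c.iota_mem_N l
  set k := w * c.ι l with hk
  have hkK : k ∈ c.K := (c.sig_eq_one_iff (c.N.mul_mem hN hlN)).mp (by
    rw [c.sig_mul hN hlN, c.sig_iota, hπ, hs])
  have hkl := c.mem_K.mp hkK l
  have hwk : w = k * c.ι l := by rw [hk, mul_assoc, ← map_mul, hl2, map_one, mul_one]
  have hkk : k * k = 1 := by
    have h2 : w * w = 1 := c.conj_z_sq h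
    rw [hwk] at h2
    calc k * k = (k * k) * (c.ι l * c.ι l) := by rw [← map_mul, hl2, map_one, mul_one]
      _ = k * (k * c.ι l) * c.ι l := by group
      _ = k * (c.ι l * k) * c.ι l := by rw [hkl]
      _ = 1 := by rw [← h2]; group
  by_cases hk1 : k = 1
  · exact ⟨y, by rw [hwk, hk1, one_mul]⟩
  · have hkz : k = c.z := c.invol_K_eq hN h1 hkK (orderOf_eq_prime (by rw [pow_two, hkk]) hk1) (by
      rw [← hw, hwk]
      calc k * (k * c.ι l) = k * (c.ι l * k) := by rw [hkl]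
        _ = _ := by group)
    refine ⟨c.xS⁻¹ * y, ?_⟩
    rw [hwk, hkz, z, ← map_mul, hl]
    congr 1
    have hs : c.xS * c.xW * c.xS⁻¹ = c.tX * c.xW := by rw [c.xS_xW, mul_inv_cancel_right]
    calc c.tX * (y⁻¹ * c.xW * y) = y⁻¹ * (c.tX * c.xW) * y := by
          rw [← mul_assoc, ← mul_assoc, ← c.tX_comm y⁻¹, mul_assoc y⁻¹]
      _ = y⁻¹ * (c.xS * c.xW * c.xS⁻¹) * y := by rw [hs]
      _ = _ := by group

end Ctx

end CfsgLib.McLStd
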