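import Cfsg.Agent.Lib.McLStd.Core
import Cfsg.Agent.Lib.Transfer.Thompson
import Cfsg.Agent.Lib.McLUniq.Top

/-!
The normaliser of the copy is the product of the copy and the odd part of its centraliser.
-/

set_option autoImplicit false
set_option linter.style.haveILetI false
set_option linter.unusedSectionVars false

open scoped commutatorElement

namespace CfsgLib.McLStd

open Equiv CfsgLib.CosetEnum CfsgLib.McLUniq CfsgLib.SpinAlt

universe u

/-- two three-cycles meeting in two points -/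
def uP : Perm (Fin 8) := sP [(2, 3), (3, 4)]

/-- the second one -/
def vP : Perm (Fin 8) := sP [(3, 4), (4, 5)]

theorem swap_facts : Perm.sign (swap (0 : Fin 8) 1) = -1 ∧
    (Perm.sign uP = 1 ∧ uP * uP * uP = 1 ∧ uP * swap 0 1 = swap 0 1 * uP) ∧
    (Perm.sign vP = 1 ∧ vP * vP * vP = 1 ∧ vP * swap 0 1 = swap 0 1 * vP) ∧
    ⁅uP, vP⁆ * ⁅uP, vP⁆ = 1 ∧ ⁅uP, vP⁆.support.card = 4 := by
  simp only [commutatorElement_def]
  decide +kernel

theorem pS_facts : prodW (seq cyc) wSwap * prodW (seq cyc) wSwap = 1 ∧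
    prodW (seq cyc) wSwap * pW = pW * prodW (seq cyc) wSwap := by
  decide +kernel

namespace Ctx

variable {G : Type u} [Group G] (c : Ctx G) [Finite G]

/-- A Sylow 2-subgroup of the copy does not centralise a conjugate of the lift of `W`. -/
theorem no_sylow_cent (Q : Sylow 2 c.L) (y : c.L)
    (h : ∀ q ∈ (Q : Subgroup c.L), q * (y⁻¹ * c.xW * y) = y⁻¹ * c.xW * y * q) : False := by
  haveI : Fact (Nat.Prime 2) := ⟨Nat.prime_two⟩
  set P0 : Subgroup c.L := (Subgroup.centralizer ({pW} : Set (Perm (Fin 8)))).comap c.piX with hP0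
  have hQ : ∀ q ∈ ((y • Q : Sylow 2 c.L) : Subgroup c.L), q * c.xW = c.xW * q := by
    intro q hq
    rw [Sylow.coe_subgroup_smul] at hq
    obtain ⟨q, hq, rfl⟩ := hq
    show y * q * y⁻¹ * c.xW = c.xW * (y * q * y⁻¹)
    calc y * q * y⁻¹ * c.xW = y * (q * (y⁻¹ * c.xW * y)) * y⁻¹ := by group
      _ = y * (y⁻¹ * c.xW * y * q) * y⁻¹ := by rw [h q hq]
      _ = _ := by group
  have hle : ((y • Q : Sylow 2 c.L) : Subgroup c.L) ≤ P0 := fun q hq => by
    rw [hP0, Subgroup.mem_comap, Subgroup.mem_centralizer_singleton_iff, ← c.piX_W, ← map_mul, ← map_mul,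
      hQ q hq]
  have hSP : c.xS ∈ P0 := by
    rw [hP0, Subgroup.mem_comap, Subgroup.mem_centralizer_singleton_iff, xS, c.piX_word]
    exact pS_facts.2
  have h4 : c.xS ^ 4 = 1 := by
    have e : c.piX (c.xS ^ 2) = 1 := by rw [map_pow, xS, c.piX_word, pow_two, pS_facts.1]
    rw [show 4 = 2 + 2 by rfl, pow_add]
    rcases c.piX_eq_one.mp e with e | e <;> rw [e]
    · exact one_mul _
    · exact c.tX_sq
  obtain ⟨S1, hS1⟩ := (show IsPGroup 2 (Subgroup.zpowers (⟨c.xS, hSP⟩ : P0)) from fun x => ⟨2, by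
    obtain ⟨i, hi⟩ := Subgroup.mem_zpowers_iff.mp x.2
    refine Subtype.ext ?_
    rw [Subgroup.coe_pow, ← hi, ← zpow_natCast, ← zpow_mul, mul_comm, zpow_mul, zpow_natCast,
      show ((⟨c.xS, hSP⟩ : P0)) ^ 2 ^ 2 = 1 from Subtype.ext h4, one_zpow]
    rfl⟩).exists_le_sylow
  obtain ⟨p, hp⟩ := MulAction.exists_smul_eq P0 S1 ((y • Q : Sylow 2 c.L).subtype hle)
  have hmem : p * (⟨c.xS, hSP⟩ : P0) * p⁻¹ ∈ ((p • S1 : Sylow 2 P0) : Subgroup P0) := by
    rw [Sylow.coe_subgroup_smul]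
    exact ⟨⟨c.xS, hSP⟩, hS1 (Subgroup.mem_zpowers _), rfl⟩
  rw [hp] at hmem
  have hc := hQ _ hmem
  change (p : c.L) * c.xS * (p : c.L)⁻¹ * c.xW = c.xW * ((p : c.L) * c.xS * (p : c.L)⁻¹) at hc
  have hc' : c.xS * ((p : c.L)⁻¹ * c.xW * p) = (p : c.L)⁻¹ * c.xW * p * c.xS := by
    calc c.xS * ((p : c.L)⁻¹ * c.xW * p) = (p : c.L)⁻¹ * ((p : c.L) * c.xS * (p : c.L)⁻¹ * c.xW) * p := by group
      _ = (p : c.L)⁻¹ * (c.xW * ((p : c.L) * c.xS * (p : c.L)⁻¹)) * p := by rw [hc]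
      _ = _ := by group
  have hpW : c.piX ((p : c.L)⁻¹ * c.xW * p) = c.piX c.xW := by
    rw [map_mul, map_mul, map_inv, c.piX_W, mul_assoc, inv_mul_eq_iff_eq_mul]
    exact (Subgroup.mem_centralizer_singleton_iff.mp (Subgroup.mem_comap.mp p.2)).symm
  have hcomm : c.xS * c.xW = c.xW * c.xS := by
    rcases c.piX_eq hpW.symm with e | e <;> rw [e] at hc'
    · exact hc'
    · refine mul_right_cancel (b := c.tX) ?_
      calc c.xS * c.xW * c.tX = c.xS * (c.xW * c.tX) := mul_assoc _ _ _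
        _ = c.xW * (c.tX * c.xS) := by rw [hc', mul_assoc]
        _ = c.xW * (c.xS * c.tX) := by rw [← c.tX_comm c.xS]
        _ = _ := (mul_assoc _ _ _).symm
  rw [c.xS_xW] at hcomm
  exact c.tX_ne (mul_right_cancel (b := c.xW) (mul_right_cancel (b := c.xS) (by rw [one_mul]; exact hcomm)))

/-- A Sylow 2-subgroup of the normaliser is one of the group. -/
theorem sylow_top (S : Sylow 2 c.N) :
    ∃ P : Sylow 2 G, (P : Subgroup G) = (S : Subgroup c.N).map c.N.subtype := by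
  haveI : Fact (Nat.Prime 2) := ⟨Nat.prime_two⟩
  set S' := (S : Subgroup c.N).map c.N.subtype with hS'
  obtain ⟨P, hP⟩ := (S.2.map c.N.subtype).exists_le_sylow
  refine ⟨P, le_antisymm ?_ hP⟩
  by_contra hnle
  have hmax : ∀ p ∈ (P : Subgroup G), p ∈ c.N → p ∈ S' := by
    intro p hp hN
    have hp2 : IsPGroup 2 ((P : Subgroup G).subgroupOf c.N) := P.2.comap_of_injective _ c.N.subtype_injective
    have e := S.3 hp2 fun s hs => Subgroup.mem_subgroupOf.mpr (hP ⟨s, hs, rfl⟩)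
    exact ⟨⟨p, hN⟩, e ▸ (Subgroup.mem_subgroupOf.mpr hp : (⟨p, hN⟩ : c.N) ∈ _), rfl⟩
  have hzS : c.z ∈ S' := by
    refine ⟨⟨c.z, c.z_mem_N⟩, ?_, rfl⟩
    haveI : (Subgroup.zpowers (⟨c.z, c.z_mem_N⟩ : c.N)).Normal := ⟨fun n hn m => by
      obtain ⟨k, rfl⟩ := Subgroup.mem_zpowers_iff.mp hn
      have hc : Commute m (⟨c.z, c.z_mem_N⟩ : c.N) := Subtype.ext (c.mem_N.mp m.2)
      rw [(hc.zpow_right k).eq, mul_inv_cancel_right]
      exact ⟨k, rfl⟩⟩
    exact (IsPGroup.of_card (p := 2) (n := 1) (show Nat.card (Subgroup.zpowers (⟨c.z, c.z_mem_N⟩ : c.N)) = 2 ^ 1 by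
      rw [Nat.card_zpowers, ← Subgroup.orderOf_coe, c.orderOf_z, pow_one])).le_sylow_of_normal S
      (Subgroup.mem_zpowers _)
  haveI : Group.IsNilpotent (P : Subgroup G) := P.2.isNilpotent
  have hlt := Group.normalizerCondition_of_isNilpotent (G := (P : Subgroup G)) (S'.subgroupOf P)
    (lt_top_iff_ne_top.mpr fun e => hnle (Subgroup.subgroupOf_eq_top.mp e))
  obtain ⟨p, hp, hp'⟩ := SetLike.exists_of_lt hlt
  have hpN : (p : G) ∉ c.N := fun h => hp' (hmax p p.2 h)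
  set z' := (p : G) * c.z * (p : G)⁻¹ with hz'
  have hz'S : z' ∈ S' := (Subgroup.mem_normalizer_iff.mp hp ⟨c.z, hP hzS⟩).1 hzS
  have hz'N : z' ∈ c.N := by
    obtain ⟨n, -, e⟩ := hz'S
    rw [← e]
    exact n.2
  have hne : z' ≠ c.z := fun e => hpN (c.mem_N.mpr (mul_inv_eq_iff_eq_mul.mp e))
  have hcen : ∀ s ∈ S', s * z' = z' * s := by
    intro s hs
    have hs' : (p : G)⁻¹ * s * p ∈ S' :=
      (Subgroup.mem_normalizer_iff''.mp hp ⟨s, hP hs⟩).1 hs
    obtain ⟨n, -, e⟩ := hs'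
    have hsN : (p : G)⁻¹ * s * p ∈ c.N := e ▸ n.2
    calc s * z' = p * ((p : G)⁻¹ * s * p * c.z) * (p : G)⁻¹ := by rw [hz']; group
      _ = p * (c.z * ((p : G)⁻¹ * s * p)) * (p : G)⁻¹ := by rw [c.mem_N.mp hsN]
      _ = _ := by rw [hz']; group
  -- a Sylow subgroup of the copy
  obtain ⟨Q⟩ : Nonempty (Sylow 2 c.L) := inferInstance
  let ι₁ : c.L →* c.N := c.ι.codRestrict c.N c.iota_mem_N
  obtain ⟨S₂, hS₂⟩ := (Q.2.map ι₁).exists_le_sylow
  obtain ⟨n, hn⟩ := MulAction.exists_smul_eq c.N S₂ S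
  have hQ : ∀ q ∈ (Q : Subgroup c.L), (n : G) * c.ι q * (n : G)⁻¹ ∈ S' := by
    intro q hq
    refine ⟨n * ι₁ q * n⁻¹, ?_, rfl⟩
    rw [← hn, Sylow.coe_subgroup_smul]
    exact ⟨ι₁ q, hS₂ ⟨q, hq, rfl⟩, rfl⟩
  set z'' := (n : G)⁻¹ * z' * n with hz''
  have e'' : z'' = ((n : G)⁻¹ * p) * c.z * ((n : G)⁻¹ * p)⁻¹ := by rw [hz'', hz']; group
  obtain ⟨y, hy⟩ := c.conj_mem (h := (n : G)⁻¹ * p)
    (e'' ▸ c.N.mul_mem (c.N.mul_mem (c.N.inv_mem n.2) hz'N) n.2)
    (fun e => hne (by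
      rw [← e''] at e
      calc z' = (n : G) * z'' * (n : G)⁻¹ := by rw [hz'']; group
        _ = c.z := by rw [e, c.mem_N.mp n.2, mul_inv_cancel_right]))
  refine c.no_sylow_cent Q y fun q hq => c.inj ?_
  rw [map_mul c.ι q, map_mul c.ι _ q, ← hy, ← e'', hz'']
  calc c.ι q * ((n : G)⁻¹ * z' * n) = (n : G)⁻¹ * (((n : G) * c.ι q * (n : G)⁻¹) * z') * n := by group
    _ = (n : G)⁻¹ * (z' * ((n : G) * c.ι q * (n : G)⁻¹)) * n := by rw [hcen _ (hQ q hq)]
    _ = _ := by group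

variable {g : G} (hg : g⁻¹ * c.z * g = c.ι c.xW)
include hg

/-- An involution of the normaliser of even permutation lies in the copy. -/
theorem even_invol_mem {v : G} (hv : v ∈ c.N) (h2 : v * v = 1) (hs : Perm.sign (c.sig v) = 1) :
    ∃ l : c.L, v = c.ι l ∧ l * l = 1 := by
  obtain ⟨l, hl⟩ := c.exists_lift hs
  set k := (c.ι l)⁻¹ * v with hk
  have hvk : v = c.ι l * k := by rw [hk, mul_inv_cancel_left]
  have hkK : k ∈ c.K := (c.sig_eq_one_iff (c.N.mul_mem (c.N.inv_mem (c.iota_mem_N l)) hv)).mp (by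
    rw [c.sig_mul (c.N.inv_mem (c.iota_mem_N l)) hv, c.sig_inv (c.iota_mem_N l), c.sig_iota, hl,
      inv_mul_cancel])
  have hvv : c.ι (l * l) * (k * k) = 1 := by
    rw [← h2, hvk, map_mul]
    calc c.ι l * c.ι l * (k * k) = c.ι l * (c.ι l * k) * k := by group
      _ = c.ι l * (k * c.ι l) * k := by rw [c.mem_K.mp hkK]
      _ = _ := by group
  have hk2 : k = 1 ∨ k = c.z := by
    refine c.K_two_elem hg hkK (e := 2) ?_
    have hl2 : c.piX (l * l) = 1 := by rw [map_mul, hl, ← c.sig_mul hv hv, h2, c.sig_one]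
    rw [show (2 : ℕ) ^ 2 = 2 + 2 by rfl, pow_add, pow_two]
    rcases c.piX_eq_one.mp hl2 with e | e <;> rw [e] at hvv
    · rw [map_one, one_mul] at hvv
      rw [hvv, one_mul]
    · rw [show k * k = c.z from (inv_eq_of_mul_eq_one_right hvv).symm.trans
        (inv_eq_of_mul_eq_one_left c.z_sq), c.z_sq]
  obtain ⟨l', hl'⟩ : ∃ l' : c.L, v = c.ι l' := by
    rcases hk2 with e | e <;> rw [e] at hvk
    · exact ⟨l, by rw [hvk, mul_one]⟩
    · exact ⟨l * c.tX, by rw [hvk, map_mul]; rfl⟩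
  exact ⟨l', hl', c.inj (by rw [map_mul, ← hl', h2, map_one])⟩

/-- An involution of the copy is conjugate to `z`. -/
theorem copy_invol_conj {l : c.L} (h2 : l * l = 1) (h1 : l ≠ 1) :
    ∃ h : G, h * c.z * h⁻¹ = c.ι l := by
  by_cases hT : l = c.tX
  · exact ⟨1, by rw [one_mul, inv_one, mul_one, hT]; rfl⟩
  obtain ⟨y, rfl⟩ := c.conj_W0 h2 h1 hT
  refine ⟨(c.ι y)⁻¹ * g⁻¹, ?_⟩
  rw [map_mul, map_mul, map_inv, ← hg]
  group

variable [IsSimpleGroup G]

/-- No element of the normaliser induces an odd permutation. -/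
theorem sign_sig {n : G} (hn : n ∈ c.N) : Perm.sign (c.sig n) = 1 := by
  by_contra hne
  have hn1 : Perm.sign (c.sig n) = -1 := (Int.units_eq_one_or _).resolve_left hne
  obtain ⟨hsw, ⟨su, u3, cu⟩, ⟨sv, v3, cv⟩, ha2, ha4⟩ := swap_facts
  obtain ⟨l, hl⟩ := c.exists_lift (s := (c.sig n)⁻¹ * swap 0 1) (by
    rw [map_mul, map_inv, hn1, hsw]; decide)
  set n1 := n * c.ι l with hn1d
  have hn1N : n1 ∈ c.N := c.N.mul_mem hn (c.iota_mem_N l)
  have hn1s : c.sig n1 = swap 0 1 := by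
    rw [hn1d, c.sig_mul hn (c.iota_mem_N l), c.sig_iota, hl, mul_inv_cancel_left]
  obtain ⟨e, m, hm, hord⟩ := Nat.exists_eq_two_pow_mul_odd (n := orderOf n1) (orderOf_pos n1).ne'
  set n2 := n1 ^ m with hn2d
  have hn2N : n2 ∈ c.N := c.N.pow_mem hn1N m
  have hss : (swap (0 : Fin 8) 1) * swap 0 1 = 1 := swap_mul_self _ _
  have hn2s : c.sig n2 = swap 0 1 := by
    rw [hn2d, c.sig_pow hn1N, hn1s]
    obtain ⟨j, rfl⟩ := hm
    rw [pow_succ, pow_mul, pow_two, hss, one_pow, one_mul]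
  have hk : n2 * n2 = 1 ∨ n2 * n2 = c.z := by
    refine c.K_two_elem hg (e := e) ((c.sig_eq_one_iff (c.N.mul_mem hn2N hn2N)).mp (by
      rw [c.sig_mul hn2N hn2N, hn2s, hss])) ?_
    rw [← pow_two, pow_right_comm, show n2 ^ 2 ^ e = 1 by rw [hn2d, ← pow_mul, mul_comm m, ← hord, pow_orderOf_eq_one],
      one_pow]
  obtain ⟨y, hyN, hy2, hys⟩ : ∃ y : G, y ∈ c.N ∧ y * y = 1 ∧ Perm.sign (c.sig y) = -1 := by
    rcases hk with hk | hk
    · exact ⟨n2, hn2N, hk, by rw [hn2s, hsw]⟩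
    obtain ⟨p, hp, hp3⟩ := c.exists_lift_cube su u3
    obtain ⟨q, hq, hq3⟩ := c.exists_lift_cube sv v3
    have hπ : c.piX ⁅p, q⁆ = ⁅uP, vP⁆ := by rw [map_commutatorElement, hp, hq]
    have hsq : ⁅p, q⁆ * ⁅p, q⁆ = c.tX := c.sq_dd (by rw [hπ]; exact isDouble_of ha2 ha4)
    have hcomm : n2 * c.ι ⁅p, q⁆ = c.ι ⁅p, q⁆ * n2 := by
      have e1 : Commute n2 (c.ι p) := c.commute_three hn2N hp3 (by rw [hn2s, hp, cu])
      have e2 : Commute n2 (c.ι q) := c.commute_three hn2N hq3 (by rw [hn2s, hq, cv])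
      rw [map_commutatorElement, commutatorElement_def]
      exact (((e1.mul_right e2).mul_right e1.inv_right).mul_right e2.inv_right).eq
    refine ⟨n2 * c.ι ⁅p, q⁆, c.N.mul_mem hn2N (c.iota_mem_N _), ?_, ?_⟩
    · calc n2 * c.ι ⁅p, q⁆ * (n2 * c.ι ⁅p, q⁆) = n2 * (c.ι ⁅p, q⁆ * n2) * c.ι ⁅p, q⁆ := by group
        _ = n2 * (n2 * c.ι ⁅p, q⁆) * c.ι ⁅p, q⁆ := by rw [hcomm]
        _ = (n2 * n2) * (c.ι ⁅p, q⁆ * c.ι ⁅p, q⁆) := by group
        _ = 1 := by rw [hk, ← map_mul, hsq]; exact c.z_sq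
    · rw [c.sig_mul hn2N (c.iota_mem_N _), c.sig_iota, hn2s, map_mul, hsw, c.sign_piX, mul_one]
  -- transfer
  haveI : Fact (Nat.Prime 2) := ⟨Nat.prime_two⟩
  obtain ⟨S, hS⟩ := (IsPGroup.of_card (p := 2) (n := 1)
    (show Nat.card (Subgroup.zpowers (⟨y, hyN⟩ : c.N)) = 2 ^ 1 by
      rw [Nat.card_zpowers, ← Subgroup.orderOf_coe, pow_one]
      exact orderOf_eq_prime (by rw [pow_two, hy2]) fun e => by
        change y = 1 at e
        rw [e, c.sig_one, map_one] at hys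
        exact absurd hys (by decide))).exists_le_sylow
  obtain ⟨P, hP⟩ := c.sylow_top S
  have hPN : (P : Subgroup G) ≤ c.N := hP ▸ Subgroup.map_subtype_le _
  have hyP : y ∈ (P : Subgroup G) := by
    rw [hP]; exact ⟨⟨y, hyN⟩, hS (Subgroup.mem_zpowers _), rfl⟩
  let f : (P : Subgroup G) →* ℤˣ := Perm.sign.comp (c.sigH.comp (Subgroup.inclusion hPN))
  have hf : f.range = ⊤ := top_le_iff.mp fun a _ => by
    rcases Int.units_eq_one_or a with rfl | rfl
    · exact one_mem _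
    · exact ⟨⟨y, hyP⟩, hys⟩
  set Q := f.ker.map (P : Subgroup G).subtype with hQ
  have hQi : Q.relIndex (P : Subgroup G) = 2 := by
    rw [Subgroup.relIndex, hQ, Subgroup.subgroupOf,
      Subgroup.comap_map_eq_self_of_injective (P : Subgroup G).subtype_injective, Subgroup.index_ker, hf,
      Subgroup.card_top]
    simp [Nat.card_eq_fintype_card]
  have hyQ : y ∉ Q := by
    rintro ⟨⟨y', hy'⟩, hk, rfl⟩
    have hk' : Perm.sign (c.sig y') = 1 := hk
    change Perm.sign (c.sig y') = -1 at hys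
    rw [hk'] at hys
    exact absurd hys (by decide)
  rcases Transfer.thompson_transfer P hQi hy2 hyP hyQ with ⟨M, hMn, hMi, hyM⟩ | ⟨h, hhP, hhQ⟩
  · rcases hMn.eq_bot_or_eq_top with e | e <;> rw [e] at hMi
    · rw [Subgroup.index_bot] at hMi
      have := Nat.le_of_dvd (by omega) (hMi ▸ Subgroup.card_dvd_of_injective c.ι c.inj)
      rw [McLUniq.card_nonsplit c.cov] at this
      omega
    · rw [Subgroup.index_top] at hMi
      omega
  obtain ⟨⟨v, hvP⟩, hvk, hv⟩ := hhQ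
  change v = h * y * h⁻¹ at hv
  have hev : Perm.sign (c.sig v) = 1 := hvk
  have hy1 : y ≠ 1 := fun e => by
    rw [e, c.sig_one, map_one] at hys
    exact absurd hys (by decide)
  have hv2 : v * v = 1 := by
    rw [hv]
    calc h * y * h⁻¹ * (h * y * h⁻¹) = h * (y * y) * h⁻¹ := by group
      _ = 1 := by rw [hy2, mul_one, mul_inv_cancel]
  obtain ⟨w, hw, hw2⟩ := c.even_invol_mem hg (hPN hvP) hv2 hev
  obtain ⟨h', hh'⟩ := c.copy_invol_conj hg hw2 fun e => hy1 (by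
    rw [e, map_one, hv] at hw
    exact conj_eq_one_iff.mp hw)
  have hyz : (h⁻¹ * h') * c.z * (h⁻¹ * h')⁻¹ = y := by
    calc (h⁻¹ * h') * c.z * (h⁻¹ * h')⁻¹ = h⁻¹ * (h' * c.z * h'⁻¹) * h := by group
      _ = y := by rw [hh', ← hw, hv]; group
  obtain ⟨x, hx⟩ := c.conj_mem (h := h⁻¹ * h') (hyz.symm ▸ hyN) (fun e => by
    rw [hyz] at e
    rw [e, c.sig_z, map_one] at hys
    exact absurd hys (by decide))
  rw [hyz] at hx
  rw [hx, c.sig_iota, c.sign_piX] at hys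
  exact absurd hys (by decide)

/-- The normaliser is the product of the copy and the odd part of its centraliser. -/
theorem decomp {n : G} (hn : n ∈ c.N) : ∃ l : c.L, ∃ d ∈ c.D hg, n = c.ι l * d := by
  obtain ⟨l, hl⟩ := c.exists_lift (c.sign_sig hg hn)
  have hk : (c.ι l)⁻¹ * n ∈ c.K := (c.sig_eq_one_iff (c.N.mul_mem (c.N.inv_mem (c.iota_mem_N l)) hn)).mp (by
    rw [c.sig_mul (c.N.inv_mem (c.iota_mem_N l)) hn, c.sig_inv (c.iota_mem_N l), c.sig_iota, hl,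
      inv_mul_cancel])
  rcases c.K_cases hg hk with h | h
  · exact ⟨l, _, h, (mul_inv_cancel_left _ _).symm⟩
  · refine ⟨l * c.tX, _, h, ?_⟩
    rw [map_mul]
    calc n = c.ι l * (c.z * c.z) * ((c.ι l)⁻¹ * n) := by rw [c.z_sq]; group
      _ = _ := by rw [z]; group

/-- The involutions of the normaliser lie in the copy. -/
theorem invol_mem {v : G} (hv : v ∈ c.N) (h2 : v * v = 1) : ∃ l : c.L, v = c.ι l ∧ l * l = 1 :=
  c.even_invol_mem hg hv h2 (c.sign_sig hg hv)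

end Ctx

end CfsgLib.McLStd
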