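import Cfsg.Agent.Lib.McLStd.Outer
import Cfsg.Agent.S2132
import Cfsg.Agent.S3334

/-!
The odd part of the centraliser of the copy is trivial: otherwise its normaliser would be strongly
embedded with the McLaughlin group as quotient.
-/

set_option autoImplicit false
set_option linter.style.haveILetI false
set_option linter.unusedSectionVars false

namespace CfsgLib.McLStd

open Equiv CfsgLib.CosetEnum CfsgLib.McLUniq CfsgLib.SpinAlt

universe u

/-- A group with the centraliser and the fusion of the McLaughlin group is that group. -/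
theorem exists_iso_mcl {H : Type u} [Group H] [Finite H] {t : H} (ht : orderOf t = 2)
    (hcov : Cfsg.IsNonsplitDoubleCover (Subgroup.centralizer ({t} : Set H)) (alternatingGroup (Fin 8)))
    (hfus : ∃ h : H, h * t * h⁻¹ * t = t * (h * t * h⁻¹) ∧ h * t * h⁻¹ ≠ t) :
    ∃ _ : McLData ↥G0, Nonempty (↥G0 ≃* H) := by
  haveI := CfsgLib.McLMult.finite_G
  obtain ⟨A⟩ := McLUniq.exists_data
  obtain ⟨S⟩ := McLUniq.exists_model hcov
  have hz := McLUniq.z_eq S ht hcov
  obtain ⟨h, hcomm, hne⟩ := hfus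
  have ho : orderOf (h * t * h⁻¹) = 2 := by rw [← MulAut.conj_apply, MulEquiv.orderOf_eq, ht]
  obtain ⟨b, -, hbu⟩ := McLUniq.exists_conj_u S hz (k := h * t * h⁻¹)
    (Subgroup.mem_centralizer_singleton_iff.2 hcomm)
    (by rw [← pow_two, ← ho, pow_orderOf_eq_one])
    (fun e => by rw [e, orderOf_one] at ho; exact absurd ho (by norm_num)) hne
  refine ⟨A, McLUniq.iso_of_fusion ht hcov S hz ⟨h⁻¹ * b, ?_⟩ A⟩
  calc h⁻¹ * b * McLUniq.ev S McLUniq.wU * (h⁻¹ * b)⁻¹
      = h⁻¹ * (b * McLUniq.ev S McLUniq.wU * b⁻¹) * h := by group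
    _ = t := by rw [hbu]; group

/-- A strongly embedded subgroup has no McLaughlin quotient with an odd kernel. -/
theorem strongly_absurd {G : Type u} [Group G] [Finite G] {M : Subgroup G} (hse : Cfsg.IsStronglyEmbedded M)
    (E : Subgroup M) [E.Normal] {z : G} (hz : orderOf z = 2) (hzM : z ∈ M)
    (hC : Nat.card (Subgroup.centralizer ({QuotientGroup.mk' E ⟨z, hzM⟩} : Set (M ⧸ E))) = 40320)
    (A : McLData ↥G0) (f : ↥G0 ≃* M ⧸ E) : False := by
  classical
  haveI := CfsgLib.McLMult.finite_G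
  obtain ⟨u, hu2, huM⟩ := CfsgLib.Invol.strongly_exists_invol_not_mem hse
  set D0 := M ⊓ M.map (MulAut.conj u).toMonoidHom with hD0
  have hodd : Odd (Nat.card D0) := hse.2.2 u huM
  set π := QuotientGroup.mk' E with hπ
  set D := (D0.subgroupOf M).map π with hD
  have hDodd : Odd (Nat.card D) := by
    refine hodd.of_dvd_nat ?_
    rw [← Nat.card_congr (Subgroup.subgroupOfEquivOfLe (inf_le_left : D0 ≤ M)).toEquiv]
    exact Subgroup.card_map_dvd _ _
  set tb : M ⧸ E := π ⟨z, hzM⟩ with htb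
  have hcardM : Nat.card (M ⧸ E) = 898128000 := by
    rw [← Nat.card_congr f.toEquiv]; exact A.card
  have hcount : Nat.card (MulAction.orbit (ConjAct (M ⧸ E)) tb) = 22275 := by
    have h1 := Subgroup.card_eq_card_quotient_mul_card_subgroup (MulAction.stabilizer (ConjAct (M ⧸ E)) tb)
    rw [← Nat.card_congr (MulAction.orbitEquivQuotientStabilizer (ConjAct (M ⧸ E)) tb)] at h1
    have h2 : Nat.card (MulAction.stabilizer (ConjAct (M ⧸ E)) tb) = 40320 := by
      rw [← hC]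
      refine Nat.card_congr
        { toFun := fun c => ⟨ConjAct.ofConjAct (c : ConjAct (M ⧸ E)), ?_⟩
          invFun := fun c => ⟨ConjAct.toConjAct (c : M ⧸ E), ?_⟩
          left_inv := fun c => rfl
          right_inv := fun c => rfl }
      · refine Subgroup.mem_centralizer_singleton_iff.2 ?_
        have hc : (c : ConjAct (M ⧸ E)) • tb = tb := c.2
        rw [ConjAct.smul_def] at hc
        exact mul_inv_eq_iff_eq_mul.1 hc
      · rw [MulAction.mem_stabilizer_iff, ConjAct.smul_def, ConjAct.ofConjAct_toConjAct]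
        exact mul_inv_eq_iff_eq_mul.2 (Subgroup.mem_centralizer_singleton_iff.1 c.2)
    rw [h2, show Nat.card (ConjAct (M ⧸ E)) = 898128000 from hcardM] at h1
    omega
  have hdiv : 22275 ∣ Nat.card D := by
    let DC : Subgroup (ConjAct (M ⧸ E)) := D.map ConjAct.toConjAct.toMonoidHom
    have hDC : Nat.card DC = Nat.card D := Subgroup.card_map_of_injective ConjAct.toConjAct.injective
    have horb : MulAction.orbit DC tb = MulAction.orbit (ConjAct (M ⧸ E)) tb := by
      refine Set.Subset.antisymm ?_ ?_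
      · rintro _ ⟨g, rfl⟩; exact ⟨(g : ConjAct (M ⧸ E)), rfl⟩
      · rintro w ⟨g, rfl⟩
        obtain ⟨m, hm⟩ := QuotientGroup.mk'_surjective E (ConjAct.ofConjAct g)
        have hmz : orderOf ((m : G) * z * (m : G)⁻¹) = 2 := by
          rw [← MulAut.conj_apply, MulEquiv.orderOf_eq, hz]
        obtain ⟨d, hd, ed⟩ := CfsgLib.Invol.strongly_inter_transitive hse hu2 huM hz hzM hmz
          (M.mul_mem (M.mul_mem m.2 hzM) (M.inv_mem m.2))
        have hdM : d ∈ M := hd.1
        refine ⟨⟨ConjAct.toConjAct (π ⟨d, hdM⟩), ⟨π ⟨d, hdM⟩, ⟨⟨d, hdM⟩, hd, rfl⟩, rfl⟩⟩, ?_⟩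
        show ConjAct.toConjAct (π ⟨d, hdM⟩) • tb = g • tb
        rw [ConjAct.toConjAct_smul, ConjAct.smul_def, ← hm, htb, hπ, ← map_inv, ← map_inv, ← map_mul,
          ← map_mul, ← map_mul, ← map_mul]
        exact congrArg π (Subtype.ext ed)
    have h1 := Subgroup.card_eq_card_quotient_mul_card_subgroup (MulAction.stabilizer DC tb)
    rw [← Nat.card_congr (MulAction.orbitEquivQuotientStabilizer DC tb), horb, hcount, hDC] at h1
    exact ⟨_, h1⟩
  refine McLUniq.not_odd_transitive A (D.map f.symm.toMonoidHom) ?_ ?_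
  · rwa [Subgroup.card_map_of_injective (f := f.symm.toMonoidHom) f.symm.injective]
  · rw [Subgroup.card_map_of_injective (f := f.symm.toMonoidHom) f.symm.injective]
    exact (show 275 ∣ 22275 by norm_num).trans hdiv

namespace Ctx

theorem xW_ne_tX {G : Type u} [Group G] (c : Ctx G) : c.xW ≠ c.tX := fun e =>
  pW_facts.2.1 (by rw [← c.piX_W, e, c.piX_tX])

variable {G : Type u} [Group G] (c : Ctx G) [Finite G] [IsSimpleGroup G]
variable {g : G} (hg : g⁻¹ * c.z * g = c.ι c.xW)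
include hg

theorem N_le_normalizer : c.N ≤ Subgroup.normalizer (c.D hg : Set G) := fun n hn =>
  Subgroup.mem_normalizer_iff.mpr fun d => ⟨fun hd => c.N_normalises_D hg hn hd, fun hd => by
    have h := c.N_normalises_D hg (c.N.inv_mem hn) hd
    rwa [show n⁻¹ * (n * d * n⁻¹) * n⁻¹⁻¹ = d by group] at h⟩

/-- An involution of the normaliser of `D` is conjugate there to `z`. -/
theorem invol_conj_M {v : G} (hv : v ∈ Subgroup.normalizer (c.D hg : Set G)) (h2 : orderOf v = 2) :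
    ∃ k ∈ Subgroup.normalizer (c.D hg : Set G), k * v * k⁻¹ = c.z := by
  haveI : Fact (Nat.Prime 2) := ⟨Nat.prime_two⟩
  set M := Subgroup.normalizer (c.D hg : Set G) with hM
  obtain ⟨S⟩ : Nonempty (Sylow 2 c.N) := inferInstance
  obtain ⟨P, hP⟩ := c.sylow_top S
  have hPN : (P : Subgroup G) ≤ c.N := hP ▸ Subgroup.map_subtype_le _
  have hPM : (P : Subgroup G) ≤ M := hPN.trans (c.N_le_normalizer hg)
  obtain ⟨S₂, hS₂⟩ := (IsPGroup.of_card (p := 2) (n := 1)
    (show Nat.card (Subgroup.zpowers (⟨v, hv⟩ : M)) = 2 ^ 1 by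
      rw [Nat.card_zpowers, ← Subgroup.orderOf_coe, h2, pow_one])).exists_le_sylow
  obtain ⟨m, hm⟩ := MulAction.exists_smul_eq M S₂ (P.subtype hPM)
  have hmv : (m : G) * v * (m : G)⁻¹ ∈ (P : Subgroup G) := by
    have h : m * (⟨v, hv⟩ : M) * m⁻¹ ∈ ((m • S₂ : Sylow 2 M) : Subgroup M) := by
      rw [Sylow.coe_subgroup_smul]
      exact ⟨⟨v, hv⟩, hS₂ (Subgroup.mem_zpowers _), rfl⟩
    rw [hm] at h
    exact h
  set v' := (m : G) * v * (m : G)⁻¹ with hv'
  have hv'2 : orderOf v' = 2 := by rw [hv', ← MulAut.conj_apply, MulEquiv.orderOf_eq, h2]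
  obtain ⟨l, hl, hl2⟩ := c.invol_mem hg (hPN hmv) (by rw [← pow_two, ← hv'2, pow_orderOf_eq_one])
  by_cases hT : l = c.tX
  · exact ⟨m, m.2, by rw [← hv', hl, hT]; rfl⟩
  obtain ⟨y, hy⟩ := c.conj_W0 hl2 (fun e => by
    rw [e, map_one] at hl
    rw [hl, orderOf_one] at hv'2
    omega) hT
  refine ⟨g * c.ι y * m, M.mul_mem (M.mul_mem (c.g_normalises_D hg) (c.N_le_normalizer hg (c.iota_mem_N y))) m.2, ?_⟩
  calc g * c.ι y * m * v * (g * c.ι y * m)⁻¹ = g * (c.ι y * v' * (c.ι y)⁻¹) * g⁻¹ := by rw [hv']; group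
    _ = c.z := by
      rw [hl, ← hy, ← map_inv, ← map_mul, ← map_mul,
        show y * (y⁻¹ * c.xW * y) * y⁻¹ = c.xW by group]
      exact c.g_conj_W hg

/-- The odd part of the centraliser is trivial. -/
theorem D_eq_bot : c.D hg = ⊥ := by
  by_contra hne
  set M := Subgroup.normalizer (c.D hg : Set G) with hM
  have hMtop : M ≠ ⊤ := fun e => by
    haveI : (c.D hg).Normal := Subgroup.normalizer_eq_top_iff.mp e
    have ht : c.D hg = ⊤ := (Subgroup.Normal.eq_bot_or_eq_top inferInstance).resolve_left hne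
    have h := c.D_odd hg
    rw [ht, Subgroup.card_top] at h
    exact (Nat.not_even_iff_odd.mpr h) (even_iff_two_dvd.mpr (c.orderOf_z ▸ orderOf_dvd_natCard c.z))
  have hNM := c.N_le_normalizer hg
  have hzM : c.z ∈ M := hNM c.z_mem_N
  have heven : Even (Nat.card M) :=
    even_iff_two_dvd.mpr (c.orderOf_z ▸ Subgroup.orderOf_dvd_natCard _ hzM)
  have hse : Cfsg.IsStronglyEmbedded M := (CfsgLib.Invol.strongly_iff_centralizer_fusion hMtop heven).2
    ⟨fun v hv hv2 x hx => by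
      obtain ⟨k, hk, ek⟩ := c.invol_conj_M hg hv hv2
      have hx' : k * x * k⁻¹ ∈ c.N := c.mem_N.mpr (by
        rw [← ek]
        calc k * x * k⁻¹ * (k * v * k⁻¹) = k * (x * v) * k⁻¹ := by group
          _ = k * (v * x) * k⁻¹ := by rw [Subgroup.mem_centralizer_singleton_iff.1 hx]
          _ = _ := by group)
      rw [show x = k⁻¹ * (k * x * k⁻¹) * k by group]
      exact mul_mem (mul_mem (inv_mem hk) (hNM hx')) hk,
    fun v hv w hw hv2 hw2 _ => by
      obtain ⟨k, hk, ek⟩ := c.invol_conj_M hg hv hv2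
      obtain ⟨k', hk', ek'⟩ := c.invol_conj_M hg hw hw2
      refine ⟨k'⁻¹ * k, mul_mem (inv_mem hk') hk, ?_⟩
      rw [show k'⁻¹ * k * v * (k'⁻¹ * k)⁻¹ = k'⁻¹ * (k * v * k⁻¹) * k' by group, ek, ← ek']
      group⟩
  set E := (c.D hg).subgroupOf M with hE
  haveI hEn : E.Normal := Subgroup.normal_in_normalizer
  set π := QuotientGroup.mk' E with hπ
  set φ : c.L →* M ⧸ E := π.comp (c.ι.codRestrict M fun x => hNM (c.iota_mem_N x)) with hφd
  have hφx : ∀ x, φ x = π ⟨c.ι x, hNM (c.iota_mem_N x)⟩ := fun x => rfl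
  have hφ : Function.Injective φ := by
    rw [injective_iff_map_eq_one]
    intro x hx
    rw [hφx, hπ, QuotientGroup.mk'_apply, QuotientGroup.eq_one_iff] at hx
    have hxD : c.ι x ∈ c.D hg := hx
    have hK := ((c.mem_D hg).mp hxD).1
    rcases c.central_eq (x := x) (fun y => c.inj (by rw [map_mul, map_mul]; exact c.mem_K.mp hK y)) with e | e
    · exact e
    · exfalso
      have h := c.orderOf_D hg hxD
      rw [e, show c.ι c.tX = c.z from rfl, c.orderOf_z] at h
      exact absurd h (by decide)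
  have hzφ : π ⟨c.z, hzM⟩ = φ c.tX := rfl
  have hr : φ.range = Subgroup.centralizer ({φ c.tX} : Set (M ⧸ E)) := by
    refine le_antisymm ?_ fun m hm => ?_
    · rintro _ ⟨x, rfl⟩
      rw [Subgroup.mem_centralizer_singleton_iff, ← map_mul, ← map_mul, c.tX_comm]
    obtain ⟨m, rfl⟩ := QuotientGroup.mk'_surjective E m
    rw [Subgroup.mem_centralizer_singleton_iff, ← hπ, ← hzφ, ← map_mul, ← map_mul, hπ,
      QuotientGroup.mk'_apply, QuotientGroup.mk'_apply, QuotientGroup.eq] at hm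
    set d := ((m * ⟨c.z, hzM⟩)⁻¹ * (⟨c.z, hzM⟩ * m) : M) with hd
    have hdD : (d : G) ∈ c.D hg := hm
    have hdK := ((c.mem_D hg).mp hdD).1
    have hdz : (d : G) * c.z = c.z * d := c.mem_N.mp (c.K_le_N hdK)
    have e : (d : G) = c.z⁻¹ * ((m : G)⁻¹ * c.z * m) := by
      rw [hd, Subgroup.coe_mul, Subgroup.coe_inv, Subgroup.coe_mul, Subgroup.coe_mul, mul_inv_rev]
      group
    have hd2 : (d : G) * d = 1 := by
      calc (d : G) * d = (c.z * c.z) * ((d : G) * d) := by rw [c.z_sq, one_mul]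
        _ = c.z * (c.z * d) * d := by group
        _ = c.z * ((d : G) * c.z) * d := by rw [hdz]
        _ = (c.z * d) * (c.z * d) := by group
        _ = 1 := by
          rw [e, mul_inv_cancel_left,
            show (m : G)⁻¹ * c.z * m * ((m : G)⁻¹ * c.z * m) = (m : G)⁻¹ * (c.z * c.z) * m by group, c.z_sq]
          group
    have hd1 : (d : G) = 1 := orderOf_eq_one_iff.mp (Nat.eq_one_of_dvd_coprimes
      (Nat.coprime_two_left.mpr (c.orderOf_D hg hdD)) (orderOf_dvd_of_pow_eq_one (by rw [pow_two, hd2]))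
      dvd_rfl)
    have hmN : (m : G) ∈ c.N := c.mem_N.mpr (by
      rw [e, inv_mul_eq_one] at hd1
      calc (m : G) * c.z = m * ((m : G)⁻¹ * c.z * m) := by rw [← hd1]
        _ = _ := by group)
    obtain ⟨l, d', hd', hml⟩ := c.decomp hg hmN
    refine ⟨l, ?_⟩
    rw [hφx, hπ, QuotientGroup.mk'_apply, QuotientGroup.mk'_apply, QuotientGroup.eq]
    show (c.ι l)⁻¹ * (m : G) ∈ c.D hg
    rwa [hml, inv_mul_cancel_left]
  have hgM : g ∈ M := c.g_normalises_D hg
  have ho : orderOf (π ⟨c.z, hzM⟩) = 2 := by rw [hzφ, orderOf_injective φ hφ, c.orderOf_tX]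
  let e : c.L ≃* Subgroup.centralizer ({φ c.tX} : Set (M ⧸ E)) :=
    (MonoidHom.ofInjective hφ).trans (MulEquiv.subgroupCongr hr)
  have hcov := Cfsg.Agent.S2132.cover_congr e c.cov
  have hcard : Nat.card (Subgroup.centralizer ({π ⟨c.z, hzM⟩} : Set (M ⧸ E))) = 40320 := by
    rw [hzφ, ← Nat.card_congr e.toEquiv]; exact McLUniq.card_nonsplit c.cov
  obtain ⟨A, ⟨f⟩⟩ := exists_iso_mcl (t := φ c.tX) (hzφ ▸ ho) hcov ⟨(π ⟨g, hgM⟩)⁻¹, by
    rw [inv_inv, ← hzφ, ← map_inv, ← map_mul, ← map_mul,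
      show (⟨g, hgM⟩ : M)⁻¹ * ⟨c.z, hzM⟩ * ⟨g, hgM⟩ = ⟨c.ι c.xW, hNM (c.iota_mem_N _)⟩ from Subtype.ext hg,
      ← hφx, hzφ, ← map_mul, ← map_mul]
    refine ⟨congrArg φ (c.tX_comm _), fun e => c.xW_ne_tX (hφ e)⟩⟩
  exact strongly_absurd hse E c.orderOf_z hzM hcard A f

/-- A standard double cover of the alternating group on eight points makes a McLaughlin group. -/
theorem iso_mcl : Cfsg.Spor.IsoMcL G := by
  have hN : Subgroup.centralizer ({c.z} : Set G) = c.L := by
    refine le_antisymm (fun n hn => ?_) fun x hx => c.iota_mem_N ⟨x, hx⟩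
    obtain ⟨l, d, hd, rfl⟩ := c.decomp hg (n := n) hn
    rw [c.D_eq_bot hg, Subgroup.mem_bot] at hd
    rw [hd, mul_one]
    exact l.2
  have hcov := Cfsg.Agent.S2132.cover_congr (MulEquiv.subgroupCongr hN.symm) c.cov
  obtain ⟨-, ⟨f⟩⟩ := exists_iso_mcl c.orderOf_z hcov ⟨g⁻¹, by
    rw [inv_inv, hg, z, ← map_mul, ← map_mul, c.tX_comm]
    exact ⟨rfl, fun e => c.xW_ne_tX (c.inj e)⟩⟩
  haveI := CfsgLib.McLMult.finite_G
  obtain ⟨e₀⟩ := Cfsg.Agent.S2073.exists_equiv
  exact ⟨f.symm.trans e₀⟩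

end Ctx

end CfsgLib.McLStd
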